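import Groth.Agent.Fdesc.LocGenPullback
import Groth.Agent.Fdesc.LocGenTensor
import Groth.Agent.Ega3B.PullTensor

/-!
# The unit and the counit of `f^* ⊣ f_*` on invertible modules when `O_S = f_* O_X`

Let `f : X ⟶ S` be such that `O_S(V) → O_X(f⁻¹ V)` is an isomorphism for every open `V`.

* `isGen_push`: a generator of `L` over `f⁻¹ U` is a generator of `f_* L` over `U`;
* `isInvertible_push`, `isIso_counit`: if `L` has a generator over `f⁻¹ U` for small `U`, then `f_* L` is invertible and
  `f^* f_* L ⟶ L` is an isomorphism;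
* `isIso_unit`: `M ⟶ f_* f^* M` is an isomorphism for `M` invertible;
* `isIso_homEquiv`: the adjoint `M ⟶ f_* N` of an isomorphism `f^* M ≅ N` is an isomorphism, for `M` invertible;
* `isInvertible_push_of_isIso_counit`: `f_* L` is invertible as soon as it is locally so after pullback ... (see `EvalDesc`).
-/

set_option autoImplicit false
universe u
open CategoryTheory CategoryTheory.Limits AlgebraicGeometry Opposite TopologicalSpace

namespace K769.CounitGen

open Groth.Agent.Fdesc Groth.Agent.Fdesc.LocGen Groth.Agent.Ega3B.PullTensor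

variable {X S : Scheme.{u}} (f : X ⟶ S)

theorem counit_pullSec {L : X.Modules} {U : S.Opens} (m : Γ((Scheme.Modules.pushforward f).obj L, U)) :
    ((Scheme.Modules.pullbackPushforwardAdjunction f).counit.app L).app (f ⁻¹ᵁ U) (pullSec f m) =
      (show Γ(L, f ⁻¹ᵁ U) from m) := by
  have h := homEquiv_app f ((Scheme.Modules.pullbackPushforwardAdjunction f).counit.app L) m
  rw [← h, Adjunction.homEquiv_unit, Adjunction.right_triangle_components]
  rfl

variable (hO : ∀ V : S.Opens, IsIso (f.app V))

include hO in
/-- A generator of `L` over `f⁻¹ U` is a generator of `f_* L` over `U`. -/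
theorem isGen_push {L : X.Modules} {U : S.Opens} {e : Γ(L, f ⁻¹ᵁ U)} (he : IsGen e) :
    IsGen (M := (Scheme.Modules.pushforward f).obj L) (U := U) e := by
  intro V hV
  have h1 := he (f ⁻¹ᵁ V) (f.preimage_mono hV)
  have h2 : Function.Bijective (f.app V) := ConcreteCategory.bijective_of_isIso (f.app V)
  exact h1.comp h2

/-- `L` has a generator over the preimages of small opens. -/
def LocTriv (L : X.Modules) : Prop :=
  ∀ s : S, ∃ (U : S.Opens) (e : Γ(L, f ⁻¹ᵁ U)), s ∈ U ∧ IsGen e

variable {f} {L : X.Modules} (hL : LocTriv f L)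

include hO hL

theorem isInvertible_push : PicF.IsInvertible ((Scheme.Modules.pushforward f).obj L) := by
  rw [isInvertible_iff]
  intro s
  obtain ⟨U, e, hs, he⟩ := hL s
  exact ⟨U, e, hs, isGen_push f hO he⟩

theorem isIso_counit : IsIso ((Scheme.Modules.pullbackPushforwardAdjunction f).counit.app L) := by
  apply isIso_of_isGen
  intro x
  obtain ⟨U, e, hs, he⟩ := hL (f x)
  have h1 : IsGen (M := (Scheme.Modules.pushforward f).obj L) (U := U) e := isGen_push f hO he
  refine ⟨f ⁻¹ᵁ U, pullSec f (M := (Scheme.Modules.pushforward f).obj L) (U := U) e, hs, h1.pullSec f, ?_⟩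
  have h2 := counit_pullSec f (L := L) (U := U) e
  exact (congrArg (fun t => IsGen (M := L) (U := f ⁻¹ᵁ U) t) h2).mpr he

omit hL

theorem isIso_unit {M : S.Modules} (hM : PicF.IsInvertible M) :
    IsIso ((Scheme.Modules.pullbackPushforwardAdjunction f).unit.app M) := by
  apply isIso_of_isGen
  intro x
  rw [isInvertible_iff] at hM
  obtain ⟨U, e, hs, he⟩ := hM x
  refine ⟨U, e, hs, he, ?_⟩
  exact isGen_push f hO (he.pullSec f)

theorem isIso_homEquiv {M : S.Modules} (hM : PicF.IsInvertible M) {N : X.Modules}
    (ψ : (Scheme.Modules.pullback f).obj M ⟶ N) [IsIso ψ] :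
    IsIso ((Scheme.Modules.pullbackPushforwardAdjunction f).homEquiv M N ψ) := by
  rw [Adjunction.homEquiv_unit]
  have := isIso_unit hO hM
  infer_instance

end K769.CounitGen
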