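import Groth.Agent.Canon.K769.RedNear
import Groth.Agent.Canon.K769.CounitGen
import Groth.Agent.CurvesB.HZero
import Groth.Agent.S0980

/-!
# Line bundles trivial on the fibres (see-saw): the counit is an isomorphism

For `f : X ⟶ Y` proper and flat, `Y` locally Noetherian, `κ(y) = Γ(X_y, O)` for all `y`, `L` invertible on `X` and trivial
on all fibres:

* `counit_of_triv_red`: if `Y` is reduced then `f_* L` is invertible and `f^* f_* L ⟶ L` is an isomorphism;
* `counit_of_triv_H1`: the same if `H^1(X_y, O) = 0` for all `y` (no reducedness).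
-/

set_option autoImplicit false
universe u

open CategoryTheory CategoryTheory.Limits AlgebraicGeometry Opposite TopologicalSpace

namespace K769.EvalCore

open Groth.Agent Groth.Agent.Ega3B

variable {X Y : Scheme.{u}}

/-- `h^0` of a trivial fibre. -/
theorem fiberRank_eq_one (f : X ⟶ Y) (N : X.Modules) (y : Y)
    (hb : Function.Bijective (algebraMap (Y.residueField y) Γ(f.fiber y, ⊤)))
    (hy : Nonempty (CohIII.fiberMod f N y ≅ Coh.structureModule (f.fiber y))) :
    CohIII.fiberRank f N 0 y = 1 := by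
  obtain ⟨φ⟩ := hy
  obtain ⟨e, he⟩ := FibreResid.exists_equiv_HH φ 0
  let E : CohIII.fiberH f N y 0 ≃+ Γ(f.fiber y, ⊤) :=
    e.trans (CurvesB.HZero.equivAdd (Coh.structureModule (f.fiber y)))
  have hE : ∀ (c : Y.residueField y) (x : CohIII.fiberH f N y 0), E (c • x) = c • E x := by
    intro c x
    rw [Algebra.smul_def]
    have h1 : e (c • x) = (Coh.toGlobal (X := f.fiber y) (A := Y.residueField y)
        (f.fiberToSpecResidueField y) c : Coh.Γtop (f.fiber y)) • e x := he _ _
    change CurvesB.HZero.equivAdd (Coh.structureModule (f.fiber y)) (e (c • x)) = _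
    rw [h1]
    exact CurvesB.HZero.equivAdd_smul (Coh.structureModule (f.fiber y)) _ (e x)
  let E' : CohIII.fiberH f N y 0 ≃ₗ[Y.residueField y] Γ(f.fiber y, ⊤) := { E with map_smul' := hE }
  unfold CohIII.fiberRank
  rw [E'.finrank_eq, ← (LinearEquiv.ofBijective (Algebra.linearMap (Y.residueField y) Γ(f.fiber y, ⊤)) hb).finrank_eq,
    Module.finrank_self]

/-- `κ(y) = Γ(X_y, O)` in two forms. -/
theorem bijective_algebraMap_iff (f : X ⟶ Y) (y : Y) :
    Function.Bijective (algebraMap (Y.residueField y) Γ(f.fiber y, ⊤)) ↔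
      IsIso (f.fiberToSpecResidueField y).appTop := by
  have h2 : (algebraMap (Y.residueField y) Γ(f.fiber y, ⊤) : Y.residueField y → Γ(f.fiber y, ⊤)) =
      (f.fiberToSpecResidueField y).appTop ∘ (Scheme.ΓSpecIso (Y.residueField y)).inv := rfl
  rw [h2, Function.Bijective.of_comp_iff _
    (ConcreteCategory.bijective_of_isIso (Scheme.ΓSpecIso (Y.residueField y)).inv)]
  exact (ConcreteCategory.isIso_iff_bijective _).symm

/-- `f_* O_X = O_Y`. -/
theorem isIso_app_of_fibres (f : X ⟶ Y) [IsProper f] [Flat f] [IsLocallyNoetherian Y]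
    (hb : ∀ y : Y, Function.Bijective (algebraMap (Y.residueField y) Γ(f.fiber y, ⊤))) (V : Y.Opens) :
    IsIso (f.app V) := by
  have : LocallyOfFinitePresentation f := inferInstance
  exact S0980.result f (fun y => (bijective_algebraMap_iff f y).mp (hb y)) V

theorem counit_of_locTriv (f : X ⟶ Y) (hO : ∀ V : Y.Opens, IsIso (f.app V)) {L : X.Modules}
    (h : K769.CounitGen.LocTriv f L) :
    PicF.IsInvertible ((Scheme.Modules.pushforward f).obj L) ∧
      IsIso ((Scheme.Modules.pullbackPushforwardAdjunction f).counit.app L) :=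
  ⟨K769.CounitGen.isInvertible_push hO h, K769.CounitGen.isIso_counit hO h⟩

/-- See-saw over a reduced base. -/
theorem counit_of_triv_red (f : X ⟶ Y) [IsProper f] [Flat f] [IsLocallyNoetherian Y]
    [AlgebraicGeometry.IsReduced Y]
    (hb : ∀ y : Y, Function.Bijective (algebraMap (Y.residueField y) Γ(f.fiber y, ⊤)))
    (L : X.Modules) (hL : PicF.IsInvertible L)
    (hy : ∀ y : Y, Nonempty (CohIII.fiberMod f L y ≅ Coh.structureModule (f.fiber y))) :
    PicF.IsInvertible ((Scheme.Modules.pushforward f).obj L) ∧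
      IsIso ((Scheme.Modules.pullbackPushforwardAdjunction f).counit.app L) := by
  have hc : IsLocallyConstant (CohIII.fiberRank f L 0) := by
    have h1 : CohIII.fiberRank f L 0 = fun _ => 1 :=
      funext fun y => fiberRank_eq_one f L y (hb y) (hy y)
    rw [h1]
    exact IsLocallyConstant.const 1
  exact counit_of_locTriv f (isIso_app_of_fibres f hb) fun y =>
    K769.RedNear.near_fibre_red f L hL hc y (hy y)

/-- See-saw when `H^1(X_y, O) = 0`. -/
theorem counit_of_triv_H1 (f : X ⟶ Y) [IsProper f] [Flat f] [IsLocallyNoetherian Y]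
    (hO : ∀ V : Y.Opens, IsIso (f.app V))
    (h1 : ∀ y : Y, Subsingleton (Coh.HH (f.fiber y) (Coh.structureModule (f.fiber y)) 1))
    (L : X.Modules) (hL : PicF.IsInvertible L)
    (hy : ∀ y : Y, Nonempty (CohIII.fiberMod f L y ≅ Coh.structureModule (f.fiber y))) :
    PicF.IsInvertible ((Scheme.Modules.pushforward f).obj L) ∧
      IsIso ((Scheme.Modules.pullbackPushforwardAdjunction f).counit.app L) :=
  counit_of_locTriv f hO fun y => K769.RedNear.near_fibre_H1 f y (h1 y) L hL (hy y)

end K769.EvalCore
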