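import Groth.Agent.Canon.K769.EvalBase
import Groth.Agent.Canon.K769.EvalCore
import Groth.Agent.Pic13.H602.InvDesc
import Groth.Agent.Ega2.QCohLocal
import Groth.Agent.Dual.H339.OmegaRank
import Groth.Agent.Krr.H495.Rank
import Groth.Agent.Sga67.LocBasis
import Groth.Agent.Ega1.QcqsPush
import Groth.Prelude.Def_Canon

/-!
# The evaluation map of powers of the relative canonical sheaf: consequences of its being an isomorphism

* `isInvertible_canonical`: `Λ^n Ω_{X/S}` is invertible for `f` smooth of relative dimension `n` and quasi-separated;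
* `isInvertible_push_of_counit`: if `f` is proper, flat and surjective, `L` is invertible and `f^* f_* L ⟶ L` is an
  isomorphism, then `f_* L` is invertible;
* `isIso_baseChange`: the base change morphism.
-/

set_option autoImplicit false
universe u
open CategoryTheory CategoryTheory.Limits AlgebraicGeometry

namespace K769.EvalRow

open Groth.Agent Groth.Agent.Fdesc.LocGen

variable {X S : Scheme.{u}}

theorem isInvertible_of_iso {L M : X.Modules} (e : L ≅ M) (hL : PicF.IsInvertible L) :
    PicF.IsInvertible M := by
  rw [isInvertible_iff] at hL ⊢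
  intro x
  obtain ⟨U, s, hx, hs⟩ := hL x
  exact ⟨U, e.hom.app U s, hx, hs.app e.hom⟩

/-- The top exterior power of a finite locally free module is invertible. -/
theorem isInvertible_extPow {m : ℕ} {E L : X.Modules} (hE : FlatMod.IsFinLocFreeOfRank m E)
    (hL : ExtPow.IsExtPow m E L) : PicF.IsInvertible L := by
  rw [← Ega2.QCohLocal.isFinLocFreeOfRank_one_iff, Krr.H495.Rank.isFinLocFreeOfRank_iff]
  have hE' := Krr.H495.Rank.isFinLocFree_of_rank hE
  refine ⟨Sga67.LocBasis.isFinLocFree_of_isExtPow hE' hL, fun x => ?_⟩
  rw [Krr.H495.Rank.rk_extPow hE' hL, Krr.H495.Rank.rk_of_rank hE, Nat.choose_self]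

theorem isInvertible_canonical (f : X ⟶ S) [QuasiSeparated f] (n : ℕ) [SmoothOfRelativeDimension n f]
    {ω : X.Modules} (hω : Canon.IsTopDiff f n ω) : PicF.IsInvertible ω :=
  isInvertible_extPow (Dual.H339.OmegaRank.isFinLocFreeOfRank_omega n f) hω

theorem isInvertible_push_of_counit (f : X ⟶ S) [QuasiCompact f] [QuasiSeparated f] [Flat f] [Surjective f]
    {L : X.Modules} (hL : PicF.IsInvertible L)
    (hev : IsIso ((Scheme.Modules.pullbackPushforwardAdjunction f).counit.app L)) :
    PicF.IsInvertible ((Scheme.Modules.pushforward f).obj L) := by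
  refine Pic13.H602.InvDesc.isInvertible_of_single f _ ?_ ?_
  · exact Ega1.QcqsPush.isQCoh_pushforward f L
      (PerfA.CohSerre.isCoh_of_isFinLocFree (Krr.H495.Rank.isFinLocFree_of_rank
        (Ega2.QCohLocal.isFinLocFreeOfRank_one_iff.2 hL))).1
  · exact isInvertible_of_iso (asIso ((Scheme.Modules.pullbackPushforwardAdjunction f).counit.app L)).symm hL

/-- Everything about `f` in the situation of the evaluation rows. -/
theorem invertible_row (f : X ⟶ S) (hproj : RedSub.IsLocallyProjective (Over.mk f))
    (n : ℕ) [SmoothOfRelativeDimension n f] [GeometricallyConnected f]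
    {ω : X.Modules} (hω : Canon.IsTopDiff f n ω) (m : ℕ)
    (hev : IsIso ((Scheme.Modules.pullbackPushforwardAdjunction f).counit.app (CohB1.tensorPow ω m))) :
    PicF.IsInvertible ((Scheme.Modules.pushforward f).obj (CohB1.tensorPow ω m)) := by
  have hp := K769.EvalBase.isProper_of_isLocallyProjective f hproj
  have hs : Smooth f := SmoothOfRelativeDimension.smooth n f
  exact isInvertible_push_of_counit f (isInvertible_tensorPow (isInvertible_canonical f n hω) m) hev

theorem baseChange_row (f : X ⟶ S) (hproj : RedSub.IsLocallyProjective (Over.mk f))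
    (n : ℕ) [SmoothOfRelativeDimension n f] [GeometricallyConnected f]
    {ω : X.Modules} (hω : Canon.IsTopDiff f n ω) (m : ℕ)
    (hev : IsIso ((Scheme.Modules.pullbackPushforwardAdjunction f).counit.app (CohB1.tensorPow ω m)))
    {S' : Scheme.{u}} (g : S' ⟶ S) {N : (pullback f g).Modules}
    (ψ : (Scheme.Modules.pullback (pullback.snd f g)).obj ((Scheme.Modules.pullback g).obj
      ((Scheme.Modules.pushforward f).obj (CohB1.tensorPow ω m))) ⟶ N) [IsIso ψ] :
    IsIso (((Scheme.Modules.pullbackPushforwardAdjunction (pullback.snd f g)).homEquiv _ _) ψ) := by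
  have hp := K769.EvalBase.isProper_of_isLocallyProjective f hproj
  have hs : Smooth f := SmoothOfRelativeDimension.smooth n f
  exact K769.CounitGen.isIso_homEquiv (f := pullback.snd f g)
    (fun V => K769.EvalBase.isIso_app (pullback.snd f g) V)
    (isInvertible_pullback g (invertible_row f hproj n hω m hev)) ψ

theorem bijective_algebraMap_fiber (f : X ⟶ S) [IsProper f] [Smooth f] [GeometricallyConnected f] (s : S) :
    Function.Bijective (algebraMap (S.residueField s) Γ(f.fiber s, ⊤)) := by
  rw [K769.EvalCore.bijective_algebraMap_iff]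
  have h1 : IsProper (f.fiberToSpecResidueField s) := inferInstanceAs (IsProper (pullback.snd _ _))
  have h2 : Smooth (f.fiberToSpecResidueField s) := inferInstanceAs (Smooth (pullback.snd _ _))
  have h3 : GeometricallyConnected (f.fiberToSpecResidueField s) :=
    inferInstanceAs (GeometricallyConnected (pullback.snd _ _))
  exact K769.EvalBase.isIso_app (f.fiberToSpecResidueField s) ⊤

/-- The evaluation map over a reduced base. -/
theorem isIso_counit_red [IsLocallyNoetherian S] [AlgebraicGeometry.IsReduced S] (f : X ⟶ S)
    (hproj : RedSub.IsLocallyProjective (Over.mk f))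
    (n : ℕ) [SmoothOfRelativeDimension n f] [GeometricallyConnected f]
    {ω : X.Modules} (hω : Canon.IsTopDiff f n ω) (m : ℕ)
    (htriv : ∀ s : ↥S, Nonempty ((Scheme.Modules.pullback (f.fiberι s)).obj (CohB1.tensorPow ω m) ≅
      Coh.structureModule (f.fiber s))) :
    IsIso ((Scheme.Modules.pullbackPushforwardAdjunction f).counit.app (CohB1.tensorPow ω m)) := by
  have hp := K769.EvalBase.isProper_of_isLocallyProjective f hproj
  have hs : Smooth f := SmoothOfRelativeDimension.smooth n f
  exact (K769.EvalCore.counit_of_triv_red f (bijective_algebraMap_fiber f) _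
    (isInvertible_tensorPow (isInvertible_canonical f n hω) m) htriv).2

/-- The evaluation map when `H^1(X_s, O) = 0`. -/
theorem isIso_counit_H1 [IsLocallyNoetherian S] (f : X ⟶ S)
    (hproj : RedSub.IsLocallyProjective (Over.mk f))
    (n : ℕ) [SmoothOfRelativeDimension n f] [GeometricallyConnected f]
    {ω : X.Modules} (hω : Canon.IsTopDiff f n ω) (m : ℕ)
    (htriv : ∀ s : ↥S, Nonempty ((Scheme.Modules.pullback (f.fiberι s)).obj (CohB1.tensorPow ω m) ≅
      Coh.structureModule (f.fiber s)))
    (hH1 : ∀ s : ↥S, Subsingleton (Coh.HH (f.fiber s) (Coh.structureModule (f.fiber s)) 1)) :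
    IsIso ((Scheme.Modules.pullbackPushforwardAdjunction f).counit.app (CohB1.tensorPow ω m)) := by
  have hp := K769.EvalBase.isProper_of_isLocallyProjective f hproj
  have hs : Smooth f := SmoothOfRelativeDimension.smooth n f
  exact (K769.EvalCore.counit_of_triv_H1 f (K769.EvalBase.isIso_app f) hH1 _
    (isInvertible_tensorPow (isInvertible_canonical f n hω) m) htriv).2

end K769.EvalRow
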