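import Groth.Prelude.Def_Canon

/-!
# Basic facts on `r`-dualizing pairs over an affine base

* `HHlin_comp`, `HHlin_id`: functoriality of `Canon.HHlin`.
* `existsUnique_of_pair`, `isIso_of_pair`: uniqueness of dualizing pairs.
* `nonempty_iso`: two dualizing modules are isomorphic.
* `of_iso`: transport of a dualizing pair along an isomorphism of modules.
-/

set_option autoImplicit false
universe u
open CategoryTheory CategoryTheory.Limits AlgebraicGeometry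

namespace K769.Basic

variable (A : Type u) [CommRing A] {X : Scheme.{u}} [X.Over (Spec (CommRingCat.of A))]

theorem HHlin_comp {F G H : X.Modules} (φ : F ⟶ G) (ψ : G ⟶ H) (r : ℕ) :
    Canon.HHlin A (φ ≫ ψ) r = Canon.HHlin A ψ r ∘ₗ Canon.HHlin A φ r := by
  apply LinearMap.ext
  intro x
  change Sheaf.H.map ((SheafOfModules.toSheaf X.ringCatSheaf).map (φ ≫ ψ)) r x =
    Sheaf.H.map _ r (Sheaf.H.map _ r x)
  rw [← Sheaf.H.map_comp_apply]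
  exact congrArg (fun t => Sheaf.H.map t r x) ((SheafOfModules.toSheaf X.ringCatSheaf).map_comp φ ψ)

theorem HHlin_id (F : X.Modules) (r : ℕ) :
    Canon.HHlin A (𝟙 F) r = LinearMap.id := by
  apply LinearMap.ext
  intro x
  refine (congrArg (fun t => Sheaf.H.map t r x) ((SheafOfModules.toSheaf X.ringCatSheaf).map_id F)).trans ?_
  exact Sheaf.H.map_id_apply x

variable {A} {r : ℕ} {ω ω' : X.Modules} {tr : Coh.HH X ω r →ₗ[A] A} {tr' : Coh.HH X ω' r →ₗ[A] A}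

theorem exists_hom (h : Canon.IsRDualOver A X r ω tr) (hω' : Coh.IsQCoh ω')
    (ψ : Coh.HH X ω' r →ₗ[A] A) : ∃ ρ : ω' ⟶ ω, tr ∘ₗ Canon.HHlin A ρ r = ψ :=
  (h.2 ω' hω').2 ψ

theorem hom_ext (h : Canon.IsRDualOver A X r ω tr) {F : X.Modules} (hF : Coh.IsQCoh F)
    {ρ ρ' : F ⟶ ω} (e : tr ∘ₗ Canon.HHlin A ρ r = tr ∘ₗ Canon.HHlin A ρ' r) : ρ = ρ' :=
  (h.2 F hF).1 e

theorem comp_eq_id (h : Canon.IsRDualOver A X r ω tr) {ρ : ω' ⟶ ω} {σ : ω ⟶ ω'}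
    (h1 : tr ∘ₗ Canon.HHlin A ρ r = tr') (h2 : tr' ∘ₗ Canon.HHlin A σ r = tr) : σ ≫ ρ = 𝟙 ω := by
  apply hom_ext h h.1
  rw [HHlin_comp, ← LinearMap.comp_assoc, h1, h2, HHlin_id, LinearMap.comp_id]

theorem existsUnique_of_pair (h : Canon.IsRDualOver A X r ω tr) (h' : Canon.IsRDualOver A X r ω' tr') :
    (∃! ρ : ω' ⟶ ω, tr ∘ₗ Canon.HHlin A ρ r = tr') ∧
      ∀ ρ : ω' ⟶ ω, tr ∘ₗ Canon.HHlin A ρ r = tr' → IsIso ρ := by
  constructor
  · obtain ⟨ρ, hρ⟩ := exists_hom h h'.1 tr'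
    exact ⟨ρ, hρ, fun ρ' hρ' => hom_ext h h'.1 (hρ'.trans hρ.symm)⟩
  · intro ρ hρ
    obtain ⟨σ, hσ⟩ := exists_hom h' h.1 tr
    exact ⟨σ, comp_eq_id h' hσ hρ, comp_eq_id h hρ hσ⟩

theorem nonempty_iso (h : Canon.IsRDualOver A X r ω tr) (h' : Canon.IsRDualOver A X r ω' tr') :
    Nonempty (ω' ≅ ω) := by
  obtain ⟨⟨ρ, hρ, _⟩, h2⟩ := existsUnique_of_pair h h'
  have := h2 ρ hρ
  exact ⟨asIso ρ⟩

end K769.Basic
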