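import Groth.Agent.Canon.K769.CounitGen
import Groth.Agent.S0981
import Groth.Agent.Ega3B.ProjProper
import Groth.Agent.Flat2B.SmoothGeom
import Groth.Prelude.Def_RedSub
import Mathlib.AlgebraicGeometry.Geometrically.Connected

/-!
# Geometric preliminaries for the evaluation map

* `isProper_of_isLocallyProjective`;
* `isIso_app`: `f_* O_X = O_S` for `f` proper, smooth with geometrically connected fibres.
-/

set_option autoImplicit false
universe u
open CategoryTheory CategoryTheory.Limits AlgebraicGeometry TopologicalSpace

namespace K769.EvalBase

open Groth.Agent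

variable {X S : Scheme.{u}}

theorem isProper_of_isLocallyProjective (f : X ⟶ S) (h : RedSub.IsLocallyProjective (Over.mk f)) :
    IsProper f := by
  choose V hV n e he hev using h
  refine (IsZariskiLocalAtTarget.iff_of_iSup_eq_top (P := @IsProper) V
    (eq_top_iff.2 fun s _ => Opens.mem_iSup.2 ⟨s, hV s⟩)).2 fun s => ?_
  have hp : IsProper (CohB1.ProjSpaceOver.toBase (n s) (V s : Scheme.{u})) :=
    Ega3B.ProjProper.isProper_toBase (n s) _
  have h1 : IsProper (Red.bc (V s).ι (Over.mk f)).hom := by
    have := he s
    rw [← hev s]
    infer_instance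
  have h2 : IsProper (pullback.snd f (V s).ι) := h1
  have h3 := (isPullback_morphismRestrict f (V s)).flip.isoPullback_hom_snd
  rw [← h3]
  infer_instance

/-- `f_* O_X = O_S` for `f` proper and smooth with geometrically connected fibres. -/
theorem isIso_app (f : X ⟶ S) [IsProper f] [Smooth f] [GeometricallyConnected f] (V : S.Opens) :
    IsIso (f.app V) := by
  refine S0981.result f (fun K _ _ g => ⟨?_, ?_⟩) V
  · exact Flat2B.SmoothGeom.isReduced_of_smooth (pullback.snd f g)
  · exact GeometricallyConnected.geometrically_connectedSpace _ _ _ (.of_hasPullback f g)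

end K769.EvalBase
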