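import Groth.Agent.Canon.K769.Basic
import Groth.Agent.LoccohB.TopRepBound
import Groth.Agent.LoccohB.TopBridge540
import Groth.Agent.Flat2G.NoethVanish
import Groth.Agent.CohqB.RelVan
import Groth.Agent.S1767
import Groth.Agent.S1766
import Groth.Agent.S0998

/-!
# Existence of `r`-dualizing pairs: the lowest cohomology of the right adjoint of `Rf_*`

* `isRDualOver_HD`: for `X` proper over a Noetherian ring `A` with fibres of dimension `≤ r`, and `a` a right adjoint of
  `Rf_*` on `D_QCoh`, the module `H^{-r}(a(O))` with a suitable trace is an `r`-dualizing pair.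
* `isGE_aO`: `a(O)` lives in degrees `≥ -r`.
-/

set_option autoImplicit false
universe u
open CategoryTheory CategoryTheory.Limits AlgebraicGeometry
attribute [local instance] HasDerivedCategory.standard

namespace K769.Exist

open Groth.Agent

variable (A : Type u) [CommRing A]

/-- Global sections of the structure sheaf of `Spec A`. -/
noncomputable def ΓunitIso : (moduleSpecΓFunctor (R := CommRingCat.of A)).obj
    (SheafOfModules.unit (Spec (CommRingCat.of A)).ringCatSheaf) ≅ ModuleCat.of (CommRingCat.of A) A :=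
  (tilde.isoTop (R := CommRingCat.of A) (ModuleCat.of (CommRingCat.of A) A)).symm

/-- `Γ(Spec A, H^0(O))` is `A`, when `O` is the structure sheaf in degree zero. -/
noncomputable def ΓHDIso (O : DCoh.D (Spec (CommRingCat.of A)))
    (e : O ≅ DCoh.inD (Spec (CommRingCat.of A)) (Coh.structureModule (Spec (CommRingCat.of A)))) :
    (moduleSpecΓFunctor (R := CommRingCat.of A)).obj (DCoh.HD O 0) ≅ ModuleCat.of (CommRingCat.of A) A :=
  (moduleSpecΓFunctor (R := CommRingCat.of A)).mapIso
    ((DerivedCategory.homologyFunctor _ 0).mapIso e ≪≫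
      (DerivedCategory.singleFunctorCompHomologyFunctorIso _ 0).app _) ≪≫ ΓunitIso A

variable [IsNoetherianRing A] (X : Scheme.{u}) [X.Over (Spec (CommRingCat.of A))]
    [IsProper (X ↘ Spec (CommRingCat.of A))] (r : ℕ)

/-- Vanishing above the fibre dimension. -/
theorem hvan_of_fib (hfib : (∀ y : ↥(Spec (CommRingCat.of A)),
      topologicalKrullDim ↥((X ↘ Spec (CommRingCat.of A)).fiber y) ≤ (r : WithBot ℕ∞)))
    (F : X.Modules) (hF : Coh.IsQCoh F) (p : ℕ) (hp : r < p) : Subsingleton (Coh.HH X F p) := by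
  have : IsNoetherianRing (CommRingCat.of A) := inferInstanceAs (IsNoetherianRing A)
  exact Flat2G.NoethVanish.subsingleton_HH _ r hfib F hF p hp

variable (hvan : ∀ F : X.Modules, Coh.IsQCoh F → ∀ p : ℕ, r < p → Subsingleton (Coh.HH X F p))

include hvan in
theorem isZero_Rpush (F : X.Modules) (hF : Coh.IsQCoh F) (p : ℕ) (hp : r < p) :
    IsZero ((Coh.Rpush (X ↘ Spec (CommRingCat.of A)) p).obj F) := by
  have : IsNoetherianRing (CommRingCat.of A) := inferInstanceAs (IsNoetherianRing A)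
  exact CohqB.RelVan.isZero_Rpush (X ↘ Spec (CommRingCat.of A)) F hF p (hvan F hF p hp)

variable [DCoh.HasRpush (X ↘ Spec (CommRingCat.of A))]
  (h : ∀ K : DCoh.D X, DCoh.IsQCohD K → DCoh.IsQCohD ((DCoh.Rpush (X ↘ Spec (CommRingCat.of A))).obj K))
  (a : DCoh.DQCoh (Spec (CommRingCat.of A)) ⥤ DCoh.DQCoh X)
  (adj : (ObjectProperty.lift DCoh.IsQCohD (ObjectProperty.ι DCoh.IsQCohD ⋙
    DCoh.Rpush (X ↘ Spec (CommRingCat.of A))) (fun K => h K.obj K.property)) ⊣ a)
  (O : DCoh.DQCoh (Spec (CommRingCat.of A)))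
  (hO : Nonempty (O.obj ≅ DCoh.inD (Spec (CommRingCat.of A)) (Coh.structureModule (Spec (CommRingCat.of A)))))

include hvan in
theorem isLE_Rpush (F : X.Modules) (hF : Coh.IsQCoh F) (j : ℤ) :
    ((DCoh.Rpush (X ↘ Spec (CommRingCat.of A))).obj
      ((DerivedCategory.singleFunctor X.Modules j).obj F)).IsLE (j + r) := by
  have : HasInjectiveResolutions X.Modules := inferInstance
  exact LoccohB.TopRepBound.isLE_rpush_single _ F r (fun p hp => isZero_Rpush A X r hvan F hF p hp) j

omit [IsNoetherianRing A] in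
include hO in
theorem isGE_O : O.obj.IsGE 0 := by
  obtain ⟨e⟩ := hO
  rw [DerivedCategory.isGE_iff]
  intro i hi
  exact (DerivedCategory.isZero_of_isGE _ 0 i hi).of_iso ((DerivedCategory.homologyFunctor _ i).mapIso e)

include hvan adj hO in
/-- `a(O)` lives in degrees `≥ -r`. -/
theorem isGE_aO : (a.obj O).obj.IsGE (-(r : ℤ)) := by
  have : IsNoetherianRing (CommRingCat.of A) := inferInstanceAs (IsNoetherianRing A)
  have hS : IsNoetherian (Spec (CommRingCat.of A)) := inferInstance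
  have hlN : IsLocallyNoetherian X := LocallyOfFiniteType.isLocallyNoetherian (X ↘ Spec (CommRingCat.of A))
  have hcX : CompactSpace X := QuasiCompact.compactSpace_of_compactSpace (X ↘ Spec (CommRingCat.of A))
  have hN : IsNoetherian X := {}
  have hOGE := isGE_O A O hO
  obtain ⟨N, hN1⟩ := S1767.result X (Spec (CommRingCat.of A)) (X ↘ Spec (CommRingCat.of A)) h a adj
  have hK : (a.obj O).obj.IsGE (-(N : ℤ)) := by
    rw [DerivedCategory.isGE_iff]
    intro i hi
    exact hN1 O (-1) (fun j hj => DerivedCategory.isZero_of_isGE O.obj 0 j (by omega)) i (by omega)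
  exact LoccohB.TopRepBound.isGE_a adj r (fun F hF j => isLE_Rpush A X r hvan F hF.1 j) O (-(r : ℤ)) 0
    (-(N : ℤ)) (by omega) hOGE hK

include hvan adj hO in
/-- The module `H^{-r}(a(O))` is part of an `r`-dualizing pair. -/
theorem isRDualOver_HD :
    ∃ tr : Coh.HH X (DCoh.HD (a.obj O).obj (-(r : ℤ))) r →ₗ[A] A,
      Canon.IsRDualOver A X r (DCoh.HD (a.obj O).obj (-(r : ℤ))) tr := by
  have hGE := isGE_aO A X r hvan h a adj O hO
  have hOGE := isGE_O A O hO
  obtain ⟨e⟩ := hO
  have hw : Coh.IsQCoh (DCoh.HD (a.obj O).obj (-(r : ℤ))) := (a.obj O).property _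
  have hM : DCoh.IsQCohD ((DerivedCategory.singleFunctor X.Modules (-(r : ℤ))).obj
      ((DerivedCategory.homologyFunctor X.Modules (-(r : ℤ))).obj (a.obj O).obj)) :=
    LoccohB.TopRepBound.isQCohD_single hw _
  obtain ⟨t, ht⟩ := LoccohB.TopBridge540.represent' A (-(r : ℤ)) 0 r (by omega) _ _
    (ΓHDIso A O.obj e) _
    (LoccohB.AdjD.univElt adj (-(r : ℤ)) 0 O hM) Coh.IsQCoh
    (fun F hF => LoccohB.TopRepBound.isQCohD_single hF _)
    (fun F hF => LoccohB.AdjD.lowest_cohomology_represents adj (-(r : ℤ)) 0 O hM F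
      (LoccohB.TopRepBound.isQCohD_single hF _) (by
        have := isLE_Rpush A X r hvan F hF (-(r : ℤ))
        rwa [show -(r : ℤ) + r = 0 by omega] at this))
  refine ⟨t, hw, fun F hF => ⟨fun φ ψ hφψ => ?_, fun ψ => ?_⟩⟩
  · obtain ⟨χ, -, hχ⟩ := ht F hF (Canon.dualityMap A X r _ t F φ)
    rw [hχ φ (fun x => rfl), hχ ψ (fun x => LinearMap.congr_fun hφψ x)]
  · obtain ⟨χ, hχ, -⟩ := ht F hF ψ
    exact ⟨χ, LinearMap.ext fun x => (hχ x).symm⟩

end K769.Exist

namespace K769.Exist

open Groth.Agent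

/-- **Existence of dualizing pairs**, for `X` proper over a Noetherian ring with `H^p = 0` on quasi-coherent modules for
`p > r`. -/
theorem exists_isRDualOver (A : Type u) [CommRing A] [IsNoetherianRing A] (X : Scheme.{u})
    [X.Over (Spec (CommRingCat.of A))] [IsProper (X ↘ Spec (CommRingCat.of A))] (r : ℕ)
    (hvan : ∀ F : X.Modules, Coh.IsQCoh F → ∀ p : ℕ, r < p → Subsingleton (Coh.HH X F p)) :
    ∃ (ω : X.Modules) (tr : Coh.HH X ω r →ₗ[A] A), Canon.IsRDualOver A X r ω tr := by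
  have := LoccohB.RpushTri.hasRpush (X ↘ Spec (CommRingCat.of A))
  have hcX : CompactSpace X := QuasiCompact.compactSpace_of_compactSpace (X ↘ Spec (CommRingCat.of A))
  have hsX : X.IsSeparated := ⟨by
    rw [← terminal.comp_from (X ↘ Spec (CommRingCat.of A))]
    infer_instance⟩
  let h : ∀ K : DCoh.D X, DCoh.IsQCohD K → DCoh.IsQCohD ((DCoh.Rpush (X ↘ Spec (CommRingCat.of A))).obj K) :=
    fun K hK => S0998.result _ K hK
  have hla := S1766.result X (Spec (CommRingCat.of A)) (X ↘ Spec (CommRingCat.of A)) h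
  let O : DCoh.DQCoh (Spec (CommRingCat.of A)) :=
    ⟨DCoh.inD (Spec (CommRingCat.of A)) (Coh.structureModule (Spec (CommRingCat.of A))),
      PerfA.QCohD.isQCohD_inD _ (PerfA.QCohSerre.isQCoh_unit _)⟩
  obtain ⟨tr, htr⟩ := isRDualOver_HD A X r hvan h _ (Adjunction.ofIsLeftAdjoint _) O ⟨Iso.refl _⟩
  exact ⟨_, tr, htr⟩

/-- Transport of a dualizing pair along an isomorphism. -/
theorem of_iso {A : Type u} [CommRing A] {X : Scheme.{u}}
    [X.Over (Spec (CommRingCat.of A))] {r : ℕ} {ω ω' : X.Modules} {tr : Coh.HH X ω r →ₗ[A] A}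
    (h : Canon.IsRDualOver A X r ω tr) (e : ω' ≅ ω) :
    Canon.IsRDualOver A X r ω' (tr ∘ₗ Canon.HHlin A e.hom r) := by
  refine ⟨PerfA.QCohSerre.isQCoh_of_iso e.symm h.1, fun F hF => ?_⟩
  have key : ∀ φ : F ⟶ ω', Canon.dualityMap A X r ω' (tr ∘ₗ Canon.HHlin A e.hom r) F φ =
      Canon.dualityMap A X r ω tr F (φ ≫ e.hom) := by
    intro φ
    unfold Canon.dualityMap
    rw [K769.Basic.HHlin_comp, LinearMap.comp_assoc]
  constructor
  · intro φ ψ hφψ
    rw [← cancel_mono e.hom]
    apply (h.2 F hF).1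
    rw [← key, ← key, hφψ]
  · intro ψ
    obtain ⟨χ, hχ⟩ := (h.2 F hF).2 ψ
    refine ⟨χ ≫ e.inv, ?_⟩
    rw [key, Category.assoc, e.inv_hom_id, Category.comp_id]
    exact hχ

end K769.Exist
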