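import Groth.Agent.Canon.K769.Basic
import Groth.Agent.CohqB.HSeqMod
import Groth.Agent.CohqB.QC7
import Groth.Agent.CohqA.DirectSum
import Groth.Agent.PerfA.QCohSerre

/-!
# Checking duality on a generating family

`isRDualOver_of_generators`: if `H^{r+1}` vanishes on quasi-coherent modules, and maps out of the quasi-coherent modules
`T j` detect equality of maps out of quasi-coherent modules, then a pair `(ω, tr)` is `r`-dualizing as soon as the
duality maps of all `T j` are bijective.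
-/

set_option autoImplicit false
universe u
open CategoryTheory CategoryTheory.Limits AlgebraicGeometry

namespace K769.Gen

open K769.Basic Groth.Agent

variable (A : Type u) [CommRing A] {X : Scheme.{u}} [X.Over (Spec (CommRingCat.of A))] {r : ℕ}

theorem H_map_zero {F G : X.Modules} (x : Coh.HH X F r) :
    Sheaf.H.map (0 : Coh.toAb F ⟶ Coh.toAb G) r x = 0 := by
  change ((Sheaf.functorH _ r).map (0 : Coh.toAb F ⟶ Coh.toAb G)).hom x = 0
  rw [Functor.map_zero]
  rfl

theorem HHlin_zero (F G : X.Modules) : Canon.HHlin A (0 : F ⟶ G) r = 0 := by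
  apply LinearMap.ext
  intro x
  exact (congrArg (fun t => Sheaf.H.map t r x)
    (Functor.map_zero (SheafOfModules.toSheaf X.ringCatSheaf) F G)).trans (H_map_zero x)

/-- `H^r` sends epimorphisms of quasi-coherent modules to surjections if `H^{r+1}` vanishes. -/
theorem HHlin_surjective (hvan : ∀ F : X.Modules, Coh.IsQCoh F → Subsingleton (Coh.HH X F (r + 1)))
    {E F : X.Modules} (e : E ⟶ F) [Epi e] (hE : Coh.IsQCoh E) (hF : Coh.IsQCoh F) :
    Function.Surjective (Canon.HHlin A e r) := by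
  intro x
  let S : ShortComplex X.Modules := ShortComplex.mk (kernel.ι e) e (kernel.condition e)
  have hS : S.ShortExact := ⟨ShortComplex.exact_kernel e⟩
  have h0 : CohqB.HSeqMod.δ hS r x = 0 :=
    (hvan (kernel e) (PerfA.QCohSerre.isQCoh_kernel e hE hF)).elim _ _
  exact CohqB.HSeqMod.exact₃ hS r x h0

variable {A}
variable {ω : X.Modules} {tr : Coh.HH X ω r →ₗ[A] A}

theorem dualityMap_comp {E F : X.Modules} (e : E ⟶ F) (φ : F ⟶ ω) :
    Canon.dualityMap A X r ω tr E (e ≫ φ) = Canon.dualityMap A X r ω tr F φ ∘ₗ Canon.HHlin A e r := by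
  unfold Canon.dualityMap
  rw [HHlin_comp, LinearMap.comp_assoc]

/-- Bijectivity for a coproduct. -/
theorem bijective_coprod [CompactSpace X] [QuasiSeparatedSpace X] {ι : Type u} (F : ι → X.Modules)
    (h : ∀ i, Function.Bijective (Canon.dualityMap A X r ω tr (F i))) :
    Function.Bijective (Canon.dualityMap A X r ω tr (∐ F)) := by
  constructor
  · intro φ ψ hφψ
    refine Sigma.hom_ext _ _ fun i => (h i).1 ?_
    rw [dualityMap_comp, dualityMap_comp, hφψ]
  · intro ψ
    have h1 : ∀ i, ∃ φ : F i ⟶ ω, Canon.dualityMap A X r ω tr (F i) φ = ψ ∘ₗ Canon.HHlin A (Sigma.ι F i) r :=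
      fun i => (h i).2 _
    choose φ hφ using h1
    refine ⟨Sigma.desc φ, LinearMap.ext fun x => ?_⟩
    obtain ⟨s, y, hy⟩ := CohqA.DirectSum.exists_finset_sum F r x
    have hy' : x = ∑ i ∈ s, Canon.HHlin A (Sigma.ι F i) r (y i) := hy
    rw [hy', map_sum, map_sum]
    refine Finset.sum_congr rfl fun i _ => ?_
    have h2 : Canon.dualityMap A X r ω tr (F i) (Sigma.ι F i ≫ Sigma.desc φ) = ψ ∘ₗ Canon.HHlin A (Sigma.ι F i) r := by
      rw [Sigma.ι_desc]
      exact hφ i
    rw [dualityMap_comp] at h2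
    exact LinearMap.congr_fun h2 (y i)

/-- Duality for a quotient of modules satisfying duality. -/
theorem bijective_of_epi (hvan : ∀ F : X.Modules, Coh.IsQCoh F → Subsingleton (Coh.HH X F (r + 1)))
    {E F : X.Modules} (e : E ⟶ F) [Epi e] (hE : Coh.IsQCoh E) (hF : Coh.IsQCoh F)
    (h0 : Function.Bijective (Canon.dualityMap A X r ω tr E))
    (h1 : ∃ (E' : X.Modules) (d : E' ⟶ kernel e), Epi d ∧
      Function.Bijective (Canon.dualityMap A X r ω tr E')) :
    Function.Bijective (Canon.dualityMap A X r ω tr F) := by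
  constructor
  · intro φ ψ hφψ
    rw [← cancel_epi e]
    apply h0.1
    rw [dualityMap_comp, dualityMap_comp, hφψ]
  · intro ψ
    obtain ⟨E', d, hd, hE'⟩ := h1
    obtain ⟨χ, hχ⟩ := h0.2 (ψ ∘ₗ Canon.HHlin A e r)
    have hz : Canon.dualityMap A X r ω tr E' ((d ≫ kernel.ι e) ≫ χ) =
        Canon.dualityMap A X r ω tr E' ((d ≫ kernel.ι e) ≫ e ≫ 0) := by
      have h2 : ∀ (φ : E ⟶ ω), Canon.dualityMap A X r ω tr E φ = ψ ∘ₗ Canon.HHlin A e r →
          Canon.dualityMap A X r ω tr E' ((d ≫ kernel.ι e) ≫ φ) = ψ ∘ₗ Canon.HHlin A ((d ≫ kernel.ι e) ≫ e) r := by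
        intro φ hφ
        rw [dualityMap_comp, hφ, LinearMap.comp_assoc, ← HHlin_comp]
      have h3 : (d ≫ kernel.ι e) ≫ e = 0 := by rw [Category.assoc, kernel.condition, comp_zero]
      have h4 : Canon.dualityMap A X r ω tr E' 0 = 0 := by
        unfold Canon.dualityMap
        rw [HHlin_zero, LinearMap.comp_zero]
      rw [h2 χ hχ, h3, HHlin_zero, comp_zero, comp_zero, h4, LinearMap.comp_zero]
    have h7 : (d ≫ kernel.ι e) ≫ χ = 0 := by
      have := hE'.1 hz
      rw [comp_zero, comp_zero] at this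
      exact this
    have h8 : kernel.ι e ≫ χ = 0 := by
      rw [← cancel_epi d, ← Category.assoc, h7, comp_zero]
    obtain ⟨φ, hφ⟩ : ∃ φ : F ⟶ ω, e ≫ φ = χ :=
      ⟨(Abelian.epiIsCokernelOfKernel (KernelFork.ofι (kernel.ι e) (kernel.condition e))
        (kernelIsKernel e)).desc (CokernelCofork.ofπ χ h8),
        (Abelian.epiIsCokernelOfKernel (KernelFork.ofι (kernel.ι e) (kernel.condition e))
        (kernelIsKernel e)).fac _ WalkingParallelPair.one⟩
    refine ⟨φ, LinearMap.ext fun x => ?_⟩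
    obtain ⟨y, rfl⟩ := HHlin_surjective A hvan e hE hF x
    have h9 := LinearMap.congr_fun hχ y
    rw [← hφ, dualityMap_comp] at h9
    exact h9

/-- The tautological epimorphism. -/
theorem epi_desc {J : Type} (T : J → X.Modules)
    (hgen : ∀ {F N : X.Modules}, Coh.IsQCoh F → ∀ h₁ h₂ : F ⟶ N,
      (∀ (j : J) (φ : T j ⟶ F), φ ≫ h₁ = φ ≫ h₂) → h₁ = h₂) {F : X.Modules} (hF : Coh.IsQCoh F) :
    Epi (Sigma.desc (fun p : Σ j : J, (T j ⟶ F) => p.2)) := by
  refine ⟨fun {N} h₁ h₂ h => hgen hF h₁ h₂ fun j φ => ?_⟩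
  have h1 := congrArg (fun t => Sigma.ι (fun p : Σ j : J, (T j ⟶ F) => T p.1) ⟨j, φ⟩ ≫ t) h
  simpa only [Sigma.ι_desc_assoc] using h1

/-- **Duality can be checked on generators.** -/
theorem isRDualOver_of_generators [CompactSpace X] [QuasiSeparatedSpace X]
    (hvan : ∀ F : X.Modules, Coh.IsQCoh F → Subsingleton (Coh.HH X F (r + 1)))
    {J : Type} (T : J → X.Modules) (hT : ∀ j, Coh.IsQCoh (T j))
    (hgen : ∀ {F N : X.Modules}, Coh.IsQCoh F → ∀ h₁ h₂ : F ⟶ N,
      (∀ (j : J) (φ : T j ⟶ F), φ ≫ h₁ = φ ≫ h₂) → h₁ = h₂)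
    (hω : Coh.IsQCoh ω) (h : ∀ j, Function.Bijective (Canon.dualityMap A X r ω tr (T j))) :
    Canon.IsRDualOver A X r ω tr := by
  refine ⟨hω, fun F hF => ?_⟩
  have hc : ∀ G : X.Modules, Function.Bijective (Canon.dualityMap A X r ω tr
      (∐ (fun p : Σ j : J, (T j ⟶ G) => T p.1))) := fun G =>
    bijective_coprod (fun p : Σ j : J, (T j ⟶ G) => T p.1) (fun p => h p.1)
  have hq : ∀ G : X.Modules, Coh.IsQCoh (∐ (fun p : Σ j : J, (T j ⟶ G) => T p.1)) := fun G =>
    CohqB.QC7.isQCoh_coproduct _ (fun p => hT p.1)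
  have := epi_desc T hgen hF
  refine bijective_of_epi hvan (Sigma.desc (fun p : Σ j : J, (T j ⟶ F) => p.2)) (hq F) hF (hc F)
    ⟨_, Sigma.desc (fun p : Σ j : J, (T j ⟶ kernel (Sigma.desc (fun p : Σ j : J, (T j ⟶ F) => p.2))) => p.2), ?_, hc _⟩
  exact epi_desc T hgen (PerfA.QCohSerre.isQCoh_kernel _ (hq F) hF)

end K769.Gen
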