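import Groth.Agent.ArSurf.K482.ConRank
import Groth.Agent.S5003
import Groth.Agent.S8905
import Groth.Agent.Synt.K561.RegImmDict
import Groth.Agent.FlatB.AffSpaceSmooth
import Mathlib.AlgebraicGeometry.AffineSpace

/-!
# Regular immersions of constant codimension from the rank of the conormal sheaf (helper769)

* `isRegularImmersionOfCodim_of_rank`, `isRegularImmersionOfCodim_of_LM`;
* `smoothOfRelativeDimension_affineSpace`.
-/

set_option autoImplicit false
universe u
open CategoryTheory CategoryTheory.Limits AlgebraicGeometry Opposite TopologicalSpace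
open Groth.Agent
open Groth.Agent.Sga67.Sec Groth.Agent.Sga67.LocBasis Groth.Agent.Krr.H495.Rank

namespace K769.RegCodim

/-- The conormal sheaf over an affine open on which the ideal is generated by a regular sequence. -/
theorem nonempty_restrict_iso_free {X Z : Scheme.{u}} (i : X ⟶ Z) [QuasiCompact i] (U : Z.Opens) (hU : IsAffineOpen U)
    (hcl : IsClosedImmersion (i ∣_ U)) (rs : List Γ(Z, U)) (hreg : RingTheory.Sequence.IsWeaklyRegular Γ(Z, U) rs)
    (hker : RingHom.ker (i.app U).hom = Ideal.ofList rs) :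
    Nonempty ((Omega.conormal i).restrict (i ⁻¹ᵁ U).ι ≅ FlatMod.freeMod _ rs.length) := by
  obtain ⟨e⟩ := K482.ConRank.restrict_iso i U
  have key : ∀ W : Z.Opens, W = U → ∃ l : List Γ(Z, W), l.length = rs.length ∧
      RingTheory.Sequence.IsWeaklyRegular Γ(Z, W) l ∧ RingHom.ker (i.app W).hom = Ideal.ofList l := by
    rintro _ rfl
    exact ⟨rs, rfl, hreg, hker⟩
  obtain ⟨l, hl, hreg', hker'⟩ := key (U.ι ''ᵁ ⊤) (by simp)
  have hU' : IsAffineOpen (⊤ : (U : Scheme.{u}).Opens) := by
    have : IsAffine (U : Scheme.{u}) := hU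
    exact isAffineOpen_top _
  have h : Nonempty (Omega.conormal (i ∣_ U) ≅ FlatMod.freeMod _ l.length) := by
    refine K482.ConRank.conormal_iso_free (i ∣_ U) hU' l hreg' ?_
    have h1 : (i ∣_ U).app ⊤ = i.app (U.ι ''ᵁ ⊤) ≫
        X.presheaf.map (eqToHom (image_morphismRestrict_preimage i U ⊤)).op := morphismRestrict_app i U ⊤
    refine Eq.trans (Ideal.ext fun a => ?_) hker'
    refine Iff.trans (b := ((i ∣_ U).app ⊤).hom a = 0) Iff.rfl ?_
    refine Iff.trans ?_ (Iff.rfl : (i.app (U.ι ''ᵁ ⊤)).hom a = 0 ↔ _)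
    have h2 : ((i ∣_ U).app ⊤).hom a = (X.presheaf.map (eqToHom (image_morphismRestrict_preimage i U ⊤)).op).hom
      ((i.app (U.ι ''ᵁ ⊤)).hom a) := congr(($h1).hom a)
    rw [h2]
    exact map_eq_zero_iff _ (ConcreteCategory.bijective_of_isIso
      (X.presheaf.map (eqToHom (image_morphismRestrict_preimage i U ⊤)).op)).1
  rw [hl] at h
  obtain ⟨e'⟩ := h
  exact ⟨e ≪≫ e'⟩

theorem isRegularImmersionOfCodim_of_rank {X Z : Scheme.{u}} (i : X ⟶ Z) [QuasiCompact i] {c : ℕ}
    (hi : RegImm.IsRegularImmersion .regular i) (hC : FlatMod.IsFinLocFreeOfRank c (Omega.conormal i)) :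
    RegImm.IsRegularImmersionOfCodim .regular c i := by
  refine ⟨hi.1, fun x => ?_⟩
  obtain ⟨U, hx, hcl, rs, hreg, hker⟩ := hi.2 x
  refine ⟨U, hx, hcl, rs, ?_, hreg, hker⟩
  have h1 := nonempty_restrict_iso_free i U.1 U.2 hcl rs hreg.toIsWeaklyRegular hker
  obtain ⟨b, hb⟩ := nonempty_restrict_iso_iff.1 h1
  have h2 := rk_eq_of_isLocBasis hb (show x ∈ i ⁻¹ᵁ U.1 from hx)
  rw [rk_of_rank hC, Fintype.card_fin] at h2
  exact h2.symm

/-- An lci immersion into a locally Noetherian scheme with conormal sheaf of constant rank `c` is a regular immersion of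
codimension `c`. -/
theorem isRegularImmersionOfCodim_of_LM {X Z : Scheme.{u}} [IsLocallyNoetherian Z] (i : X ⟶ Z) [IsImmersion i]
    [QuasiCompact i] (h : Groth.Agent.Dual.H375.LciLocus.LM i) {c : ℕ}
    (hC : FlatMod.IsFinLocFreeOfRank c (Omega.conormal i)) : RegImm.IsRegularImmersionOfCodim .regular c i := by
  have h1 : RegImm.IsRegularImmersion .koszul i :=
    (K561.RegImmDict.isRegularImmersion_koszul_iff i).2 ⟨inferInstance, h⟩
  exact isRegularImmersionOfCodim_of_rank i
    ((S5003.result i).2 ((S8905.result i).2.2 ((S8905.result i).2.1 h1))) hC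

theorem isStandardSmooth_ulift (m : ℕ) (R : Type u) [CommRing R] :
    (algebraMap R (MvPolynomial (ULift.{u} (Fin m)) R)).IsStandardSmoothOfRelativeDimension m := by
  have h : (algebraMap R (MvPolynomial (Fin m) R)).IsStandardSmoothOfRelativeDimension m := by
    rw [RingHom.isStandardSmoothOfRelativeDimension_algebraMap]
    exact FlatB.AffSpaceSmooth.isStandardSmoothOfRelativeDimension R m
  have h2 := RingHom.isStandardSmoothOfRelativeDimension_respectsIso.1 _
    (MvPolynomial.renameEquiv R Equiv.ulift.{u, 0}.symm).toRingEquiv h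
  have h3 : ((MvPolynomial.renameEquiv R (Equiv.ulift.{u, 0} (α := Fin m)).symm).toRingEquiv.toRingHom.comp
      (algebraMap R (MvPolynomial (Fin m) R))) = algebraMap R (MvPolynomial (ULift.{u} (Fin m)) R) := by
    ext r
    simp
  rw [← h3]
  exact h2

/-- Affine `m`-space is smooth of relative dimension `m` (after `Vancyc.H263.PunctAff`). -/
theorem smoothOfRelativeDimension_affineSpace (m : ℕ) (R : CommRingCat.{u}) :
    SmoothOfRelativeDimension m (𝔸(ULift.{u} (Fin m); Spec R) ↘ Spec R) := by
  have hS : MorphismProperty.IsStableUnderBaseChange (@SmoothOfRelativeDimension.{u} m) :=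
    smoothOfRelativeDimension_isStableUnderBaseChange m
  have hR : MorphismProperty.RespectsIso (@SmoothOfRelativeDimension.{u} m) :=
    MorphismProperty.IsStableUnderBaseChange.respectsIso
  rw [← MorphismProperty.cancel_left_of_respectsIso (P := @SmoothOfRelativeDimension m)
    (AffineSpace.SpecIso (ULift.{u} (Fin m)) R).inv, AffineSpace.SpecIso_inv_over]
  rw [HasRingHomProperty.Spec_iff (P := @SmoothOfRelativeDimension m)]
  exact RingHom.locally_of RingHom.isStandardSmoothOfRelativeDimension_respectsIso _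
    (isStandardSmooth_ulift m R)

end K769.RegCodim
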