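import Groth.Agent.Canon.K769.DetComp
import Groth.Agent.Canon.K769.RegCodim
import Groth.Agent.Etbc.H215.AffEmb

/-!
# Canonical sheaves and restriction to the generic fibre (helper769)
-/

set_option autoImplicit false
universe u
open CategoryTheory CategoryTheory.Limits AlgebraicGeometry TopologicalSpace
open Groth.Agent

namespace K769.GenFib

open K482.DetPic K482.CanonTool K482.TensCalc K769.DetCore K769.DetComp K769.RegCodim
open K561.LciDict Groth.Agent.Dual.H375.LciLocus
open Groth.Agent.Grpsch.PicGrp Groth.Agent.Grpsch.ConormalIso Groth.Agent.Krr.H495.Rank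

/-- On a preconnected scheme a finite locally free module has constant rank. -/
theorem exists_rank {X : Scheme.{u}} [PreconnectedSpace X] {M : X.Modules} (hM : FlatMod.IsFinLocFree M) :
    ∃ n, FlatMod.IsFinLocFreeOfRank n M := by
  rcases isEmpty_or_nonempty X with h | h
  · exact ⟨0, fun x => (h.false x).elim⟩
  · have : ConnectedSpace X := { toNonempty := h }
    exact exists_rank_of_connected hM

theorem flat_fromSpecStalk (Y : Scheme.{u}) (y : Y) : Flat (Y.fromSpecStalk y) := by
  obtain ⟨_, ⟨U, hU, rfl⟩, hyU, -⟩ :=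
    Y.isBasis_affineOpens.exists_subset_of_mem_open (Set.mem_univ y) isOpen_univ
  rw [← hU.fromSpecStalk_eq_fromSpecStalk hyU]
  dsimp only [IsAffineOpen.fromSpecStalk]
  have : Flat (Spec.map (Y.presheaf.germ U y hyU)) := by
    rw [Flat.SpecMap_iff]
    let : Algebra Γ(Y, U) (Y.presheaf.stalk y) := (Y.presheaf.germ U y hyU).hom.toAlgebra
    have := hU.isLocalization_stalk ⟨y, hyU⟩
    exact IsLocalization.flat (Y.presheaf.stalk y) (hU.primeIdealOf ⟨y, hyU⟩).asIdeal.primeCompl
  have h2 : Flat hU.fromSpec := inferInstance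
  exact Flat.comp _ _

/-- `Spec O_{B,y} → B` factors through every open neighbourhood of `y`, flatly. -/
theorem exists_lift_fromSpecStalk (B : Scheme.{u}) (y : B) (U : B.Opens) (hy : y ∈ U) :
    ∃ v : Spec (B.presheaf.stalk y) ⟶ U.toScheme, v ≫ U.ι = B.fromSpecStalk y ∧ Flat v := by
  have hr : Set.range (B.fromSpecStalk y) ⊆ Set.range U.ι := by
    rw [Scheme.range_fromSpecStalk, Scheme.Opens.range_ι]
    exact fun z hz => Specializes.mem_open hz U.2 hy
  have hv := IsOpenImmersion.lift_fac U.ι (B.fromSpecStalk y) hr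
  refine ⟨IsOpenImmersion.lift U.ι (B.fromSpecStalk y) hr, hv, ?_⟩
  exact MorphismProperty.of_isPullback (isPullback_of_mono hv).flip (flat_fromSpecStalk B y)

/-- The conormal sheaf of the restriction of an immersion to an open subscheme of the source. -/
theorem conormal_restrict {X Z : Scheme.{u}} (i : X ⟶ Z) [IsImmersion i] [QuasiCompact i] (U : X.Opens)
    [QuasiCompact U.ι] :
    Nonempty ((Scheme.Modules.pullback U.ι).obj (Omega.conormal i) ≅ Omega.conormal (U.ι ≫ i)) := by
  obtain ⟨W, hW, hWU⟩ := i.isEmbedding.isInducing.isOpen_iff.1 U.2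
  obtain rfl : i ⁻¹ᵁ ⟨W, hW⟩ = U := Opens.ext hWU
  obtain ⟨e1⟩ := conormal_bc_flat (isPullback_morphismRestrict i ⟨W, hW⟩)
  obtain ⟨e2⟩ := conormal_bc_flat (isPullback_of_mono (morphismRestrict_ι i ⟨W, hW⟩))
  exact ⟨e1 ≪≫ e2.symm ≪≫ (Scheme.Modules.pullbackId _).app _⟩

section Core

variable {S B X Z W T XT : Scheme.{u}} (π : X ⟶ B) (pB : B ⟶ S) (i : X ⟶ Z) (g : Z ⟶ S) (j : B ⟶ W) (p : W ⟶ S)
  (v : T ⟶ B) (a : XT ⟶ X) (b : XT ⟶ T)

theorem wT (w : π ≫ pB = i ≫ g) (H : IsPullback a b π v) : b ≫ v ≫ pB = (a ≫ i) ≫ g := by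
  rw [Category.assoc, ← w, ← Category.assoc, ← H.w, Category.assoc]

/-- The square defining the factorisation of the base change. -/
theorem exists_square (w : π ≫ pB = i ≫ g) (H : IsPullback a b π v) :
    ∃ V : pullback (v ≫ pB) g ⟶ pullback pB g,
      IsPullback V (pullback.fst (v ≫ pB) g) (pullback.fst pB g) v ∧
      IsPullback (pullback.lift b (a ≫ i) (wT π pB i g v a b w H)) a V (pullback.lift π i w) := by
  have h1 := isPullback_map (v ≫ pB) g v pB rfl
  refine ⟨_, h1, IsPullback.of_right (h₁₂ := pullback.fst (v ≫ pB) g) (h₂₂ := pullback.fst pB g) (v₁₃ := v)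
    ?_ ?_ h1.flip⟩
  · rw [pullback.lift_fst, pullback.lift_fst]
    exact H.flip
  · apply pullback.hom_ext
    · rw [Category.assoc, pullback.lift_fst, ← Category.assoc, pullback.lift_fst, Category.assoc,
        pullback.lift_fst, H.w]
    · rw [Category.assoc, pullback.lift_snd, ← Category.assoc, pullback.lift_snd, Category.comp_id,
        Category.assoc, pullback.lift_snd]

/-- Canonical sheaves and a flat base change to a scheme with trivial Picard group. -/
theorem isCanonical_core [IsImmersion i] [QuasiCompact i] [QuasiSeparated g] [IsImmersion j] [QuasiCompact j]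
    [Smooth p] [QuasiSeparated p] [Flat v] [IsLocallyNoetherian T] (hT : ∀ c : Pic T, c = 1)
    (w : π ≫ pB = i ≫ g) (hj : j ≫ p = pB) (hπ : LM π) (H : IsPullback a b π v) {c n cj np cl : ℕ}
    (hg : SmoothOfRelativeDimension n g)
    (hC : FlatMod.IsFinLocFreeOfRank c (Omega.conormal i)) (hjr : FlatMod.IsFinLocFreeOfRank cj (Omega.conormal j))
    (hp : FlatMod.IsFinLocFreeOfRank np (Omega.sheaf p))
    (hl : FlatMod.IsFinLocFreeOfRank cl (Omega.conormal (pullback.lift π i w)))
    {ω : X.Modules} (hω : Canon.IsCanonicalVia i g c n ω) :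
    Canon.IsCanonical b ((Scheme.Modules.pullback a).obj ω) := by
  have hgs : Smooth g := SmoothOfRelativeDimension.smooth n g
  have hΩ : FlatMod.IsFinLocFreeOfRank n (Omega.sheaf g) := Dual.H339.OmegaRank.isFinLocFreeOfRank_omega n g
  have hBs : QuasiSeparated pB := by rw [← hj]; infer_instance
  have wt := wT π pB i g v a b w H
  obtain ⟨V, HV, Hi⟩ := exists_square π pB i g v a b w H
  have i1 := isImmersion_lift π pB i g w
  have i2 := quasiCompact_lift π pB i g w
  have i3 := LM_lift π pB i g w hπ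
  have hVf : Flat V := MorphismProperty.of_isPullback HV.flip inferInstance
  have j1 : IsImmersion (pullback.lift b (a ≫ i) wt) := MorphismProperty.of_isPullback Hi.flip i1
  have j2 : QuasiCompact (pullback.lift b (a ≫ i) wt) := MorphismProperty.of_isPullback Hi.flip i2
  have j3 : LM (pullback.lift b (a ≫ i) wt) := LM_flatBaseChange Hi.flip i3
  -- the smooth scheme over `T`
  have hsb := smoothOfRelativeDimension_isStableUnderBaseChange.{u} n
  have hg' : SmoothOfRelativeDimension n (pullback.fst (v ≫ pB) g) :=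
    hsb.of_isPullback (IsPullback.of_hasPullback (v ≫ pB) g).flip hg
  have hN : IsLocallyNoetherian (pullback (v ≫ pB) g) :=
    LocallyOfFiniteType.isLocallyNoetherian (pullback.fst (v ≫ pB) g)
  obtain ⟨hCT, eCT⟩ := det_of_iso a hl (conormal_bc_flat Hi)
  obtain ⟨hΩT, eΩT⟩ := det_of_iso (pullback.snd (v ≫ pB) g) hΩ
    (omega_bc (IsPullback.of_hasPullback (v ≫ pB) g).flip)
  have hreg := isRegularImmersionOfCodim_of_LM (pullback.lift b (a ≫ i) wt) j3 hCT
  refine ⟨_, pullback.lift b (a ≫ i) wt, pullback.fst (v ≫ pB) g, cl, n, pullback.lift_fst _ _ _, hreg, hg',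
    j2, inferInstance, ?_⟩
  have inv := isInvertible_of_via hC hΩ hω
  have inv' := Fdesc.LocGen.isInvertible_pullback a inv
  refine via_of_mk hCT hΩT inv' ?_
  have m := mk_via hC hΩ hω inv
  have mas := det_master π pB i g j p w hj hπ hC hjr hp hl
  have kill : ∀ x : Pic B, pull a (pull π x) = 1 := fun x => by
    rw [← pull_comp, H.w, pull_comp, hT (pull v x), map_one]
  have mas' := congrArg (pull a) mas
  rw [map_mul, map_mul, kill, kill, one_mul, mul_one] at mas'
  have h1 : pull (pullback.lift b (a ≫ i) wt) (pull (pullback.snd (v ≫ pB) g) (det hΩ)) =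
      pull a (pull i (det hΩ)) := by
    rw [← pull_comp, ← pull_comp, pullback.lift_snd]
  rw [eCT, mas', ← pull_mk a inv, eΩT, h1, ← m, map_mul]

end Core

end K769.GenFib
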