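import Groth.Agent.Flat2G.NoethVanish
import Groth.Agent.S0846
import Groth.Agent.FormalB.ModPowAff2
import Groth.Agent.CohqA.ClosedPush
import Groth.Agent.CohqA.AffPush
import Groth.Agent.CohqA.ProjDim

/-!
# The twisting sheaves generate the quasi-coherent modules of a projective scheme

* `hom_ext_Pn`: on `P^n_A`, `A` Noetherian, maps out of the `O(m)` detect equality of maps out of quasi-coherent modules.
* `hom_ext_closed`: the same on a closed subscheme, with the pullbacks of the `O(m)`.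
-/

set_option autoImplicit false
universe u
open CategoryTheory CategoryTheory.Limits AlgebraicGeometry

namespace K769.GenTwist

open Groth.Agent

variable (A : Type u) [CommRing A] [IsNoetherianRing A] (n : ℕ)

theorem hom_ext_Pn {G N : (CohB1.ProjSpace n A).Modules} (hG : Coh.IsQCoh G) (h₁ h₂ : G ⟶ N)
    (h : ∀ (m : ℤ) (φ : Twist.twistProjSpace n A m ⟶ G), φ ≫ h₁ = φ ≫ h₂) : h₁ = h₂ := by
  have : IsNoetherian (CohB1.ProjSpace n A) := CohqA.ProjDim.isNoetherian A n
  refine FormalB.ModPowAff2.hom_ext_of_affine_cover hG _ _ fun x => ?_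
  obtain ⟨_, ⟨V, hV, rfl⟩, hx, -⟩ := (CohB1.ProjSpace n A).isBasis_affineOpens.exists_subset_of_mem_open
    (Set.mem_univ x) isOpen_univ
  refine ⟨V, hx, hV, fun m => ?_⟩
  obtain ⟨M, i, _, hM, t, rfl⟩ := Flat2G.NoethVanish.exists_isCoh_section G hG V m
  obtain ⟨k, d, φ, hφ⟩ : ∃ (k : ℕ) (d : Fin k → ℤ)
      (φ : (∐ fun j : Fin k => Twist.twistProjSpace n A (d j)) ⟶ M), Epi φ :=
    S0846.result (CohB1.polyGrading n A) M hM
  have h3 : i ≫ h₁ = i ≫ h₂ := by
    rw [← cancel_epi φ]
    refine Sigma.hom_ext _ _ fun j => ?_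
    have := h (d j) (Sigma.ι (fun j : Fin k => Twist.twistProjSpace n A (d j)) j ≫ φ ≫ i)
    simpa using this
  have h4 : (i ≫ h₁).app V t = (i ≫ h₂).app V t := by rw [h3]
  exact h4

theorem hom_ext_closed {X : Scheme.{u}} (ι : X ⟶ CohB1.ProjSpace n A) [IsClosedImmersion ι]
    {F N : X.Modules} (hF : Coh.IsQCoh F) (h₁ h₂ : F ⟶ N)
    (h : ∀ (m : ℤ) (φ : (Scheme.Modules.pullback ι).obj (Twist.twistProjSpace n A m) ⟶ F),
      φ ≫ h₁ = φ ≫ h₂) : h₁ = h₂ := by
  apply (Scheme.Modules.pushforward ι).map_injective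
  apply hom_ext_Pn A n (CohqA.AffPush.isQCoh_push ι F hF)
  intro m φ
  let adj := Scheme.Modules.pullbackPushforwardAdjunction ι
  have h1 := congrArg (adj.homEquiv _ _) (h m ((adj.homEquiv _ _).symm φ))
  rw [Adjunction.homEquiv_naturality_right, Adjunction.homEquiv_naturality_right,
    Equiv.apply_symm_apply] at h1
  exact h1

end K769.GenTwist
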