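import Groth.Agent.Canon.K769.Gen
import Groth.Agent.Canon.K769.GenTwist
import Groth.Agent.Canon.K769.Exist
import Groth.Agent.Ega3B.ProjProper
import Groth.Agent.VarietyB.PullSec
import Groth.Agent.PerfB.TwistDer

/-!
# Duality on a projective scheme can be checked on the twists `O_X(m)`
-/

set_option autoImplicit false
universe u
open CategoryTheory CategoryTheory.Limits AlgebraicGeometry

namespace K769.GenRow

open Groth.Agent

variable (A : Type u) [CommRing A] (n : ℕ) (X : Scheme.{u}) [X.Over (Spec (CommRingCat.of A))]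
    (ι : X ⟶ CohB1.ProjSpace n A) [IsClosedImmersion ι]
    (hι : ι ≫ CohB1.ProjSpace.toSpec n A = X ↘ Spec (CommRingCat.of A))

include hι in
theorem isProper : IsProper (X ↘ Spec (CommRingCat.of A)) := by
  have := Ega3B.ProjProper.isProper_toSpec n A
  rw [← hι]
  infer_instance

include hι in
theorem isRDualOver_of_twists [IsNoetherianRing A] (r : ℕ)
    (hfib : (∀ y : ↥(Spec (CommRingCat.of A)),
      topologicalKrullDim ↥((X ↘ Spec (CommRingCat.of A)).fiber y) ≤ (r : WithBot ℕ∞)))
    (ω : X.Modules) (hω : Coh.IsQCoh ω) (tr : Coh.HH X ω r →ₗ[A] A)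
    (h : ∀ m : ℤ, Function.Bijective
      (Canon.dualityMap A X r ω tr ((Scheme.Modules.pullback ι).obj (Twist.twistProjSpace n A m)))) :
    Canon.IsRDualOver A X r ω tr := by
  have hp := isProper A n X ι hι
  have hcX : CompactSpace X := QuasiCompact.compactSpace_of_compactSpace (X ↘ Spec (CommRingCat.of A))
  have hsX : X.IsSeparated := ⟨by
    rw [← terminal.comp_from (X ↘ Spec (CommRingCat.of A))]
    infer_instance⟩
  refine K769.Gen.isRDualOver_of_generators
    (fun F hF => K769.Exist.hvan_of_fib A X r hfib F hF (r + 1) (by omega))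
    (fun m : ℤ => (Scheme.Modules.pullback ι).obj (Twist.twistProjSpace n A m)) (fun m => ?_)
    (fun {F N} hF h₁ h₂ h => K769.GenTwist.hom_ext_closed A n ι hF h₁ h₂ h) hω h
  exact VarietyB.PullSec.isQCoh_pullback ι _ (PerfB.TwistDer.isQCoh_tw n A m)

end K769.GenRow
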