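import Groth.Agent.Canon.K769.Exist
import Groth.Agent.S1824
import Groth.Agent.S0022
import Groth.Agent.Ega3B.ProjProper
import Groth.Agent.PerfA.PerfWin

/-!
# The dualizing pair of projective space

`exists_trace_twist`: over a Noetherian ring, `O(-d-1)` with a suitable trace is a `d`-dualizing pair of `P^d_A`.
-/

set_option autoImplicit false
universe u
open CategoryTheory CategoryTheory.Limits AlgebraicGeometry
attribute [local instance] HasDerivedCategory.standard

namespace K769.ProjPair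

open Groth.Agent

/-- `H^{-n}(M[n]) ≅ M`. -/
noncomputable def HDinD {X : Scheme.{u}} (M : X.Modules) (n i : ℤ) (h : n + i = 0) :
    DCoh.HD ((DCoh.inD X M)⟦n⟧) i ≅ M :=
  PerfA.PerfWin.HDshift (DCoh.inD X M) n i 0 h ≪≫
    (DerivedCategory.singleFunctorCompHomologyFunctorIso _ 0).app M

/-- **Duality for projective space**: `O(-d-1)` is part of a dualizing pair. -/
theorem exists_trace_twist (A : Type u) [CommRing A] [IsNoetherianRing A] (d : ℕ) :
    ∃ tr : Coh.HH (CohB1.ProjSpace d A) (Twist.twistProjSpace d A (-((d : ℤ) + 1))) d →ₗ[A] A,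
      Canon.IsRDualOver A (CohB1.ProjSpace d A) d (Twist.twistProjSpace d A (-((d : ℤ) + 1))) tr := by
  have hp : IsProper (CohB1.ProjSpace.toSpec d A) := Ega3B.ProjProper.isProper_toSpec d A
  have hp' : IsProper (CohB1.ProjSpace d A ↘ Spec (CommRingCat.of A)) := hp
  have hR := LoccohB.RpushTri.hasRpush (CohB1.ProjSpace.toSpec d A)
  have hR' : DCoh.HasRpush (CohB1.ProjSpace d A ↘ Spec (CommRingCat.of A)) := hR
  have hcX : CompactSpace (CohB1.ProjSpace d A) :=
    QuasiCompact.compactSpace_of_compactSpace (CohB1.ProjSpace.toSpec d A)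
  have hsX : (CohB1.ProjSpace d A).IsSeparated := ⟨by
    rw [← terminal.comp_from (CohB1.ProjSpace.toSpec d A)]
    infer_instance⟩
  let h : ∀ K : DCoh.D (CohB1.ProjSpace d A), DCoh.IsQCohD K →
      DCoh.IsQCohD ((DCoh.Rpush (CohB1.ProjSpace.toSpec d A)).obj K) :=
    fun K hK => S0998.result _ K hK
  have hla := S1766.result (CohB1.ProjSpace d A) (Spec (CommRingCat.of A)) (CohB1.ProjSpace.toSpec d A) h
  let O : DCoh.DQCoh (Spec (CommRingCat.of A)) :=
    ⟨DCoh.inD (Spec (CommRingCat.of A)) (Coh.structureModule (Spec (CommRingCat.of A))),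
      PerfA.QCohD.isQCohD_inD _ (PerfA.QCohSerre.isQCoh_unit _)⟩
  have adj := Adjunction.ofIsLeftAdjoint (ObjectProperty.lift DCoh.IsQCohD (ObjectProperty.ι DCoh.IsQCohD ⋙
    DCoh.Rpush (CohB1.ProjSpace.toSpec d A)) (fun K => h K.obj K.property))
  obtain ⟨e⟩ := S1824.result d A h _ adj O ⟨Iso.refl _⟩
  obtain ⟨tr, htr⟩ := K769.Exist.isRDualOver_HD A (CohB1.ProjSpace d A) d
    (fun F hF p hp => @S0022.result d A _ F hF p hp) h _ adj O ⟨Iso.refl _⟩
  let i : Twist.twistProjSpace d A (-((d : ℤ) + 1)) ≅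
      DCoh.HD ((ObjectProperty.lift DCoh.IsQCohD (ObjectProperty.ι DCoh.IsQCohD ⋙
    DCoh.Rpush (CohB1.ProjSpace.toSpec d A)) (fun K => h K.obj K.property)).rightAdjoint.obj O).obj (-(d : ℤ)) :=
    ((DerivedCategory.homologyFunctor _ (-(d : ℤ))).mapIso e ≪≫ HDinD _ (d : ℤ) (-(d : ℤ)) (by omega)).symm
  exact ⟨_, K769.Exist.of_iso htr i⟩

end K769.ProjPair
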