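import Groth.Agent.Canon.K769.Basic
import Groth.Agent.CohqB.HPush

/-!
# The natural `A`-linear isomorphism `H^r(Z, π_* F) ≅ H^r(X, F)` for affine `π`, and dualizing pairs

* `exists_pushLin`: natural `A`-linear maps `H^n(Z, π_* F) → H^n(X, F)`, bijective for `F` quasi-coherent.
* `exists_isRDualOver_push`: if `(ω_Z, tr_Z)` is dualizing on `Z` and `ω_X` represents `F ↦ Hom(π_* F, ω_Z)`, then
  `ω_X` carries a trace making it dualizing on `X`.
-/

set_option autoImplicit false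
universe u
open CategoryTheory CategoryTheory.Limits AlgebraicGeometry

namespace K769.Push

open Groth.Agent.CohqB.HPush Groth.Agent.CohqB.P1Trans

section HA

variable {A : Type u} [CommRing A] {X Z : Scheme.{u}} (π : X ⟶ Z) [IsAffineHom π]
  (g : Z ⟶ Spec (CommRingCat.of A)) (f : X ⟶ Spec (CommRingCat.of A))

theorem exists_pushA (h : π ≫ g = f) (n : ℕ) :
    ∃ P : ∀ F : X.Modules, HA g ((Coh.push π).obj F) n →ₗ[A] HA f F n,
      (∀ (F G : X.Modules) (φ : F ⟶ G) (x : HA g ((Coh.push π).obj F) n),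
        P G (hmapA g ((Coh.push π).map φ) n x) = hmapA f φ n (P F x)) ∧
      ∀ F : X.Modules, Coh.IsQCoh F → Function.Bijective (P F) := by
  subst h
  exact ⟨fun F => pushMapA π g F n, fun F G φ x => pushMapA_nat π g φ n x,
    fun F hF => pushMapA_bijective_of_affine π g hF n⟩

end HA

variable (A : Type u) [CommRing A] {X Z : Scheme.{u}} [X.Over (Spec (CommRingCat.of A))]
  [Z.Over (Spec (CommRingCat.of A))] (π : X ⟶ Z) [IsAffineHom π]
  (hπ : π ≫ (Z ↘ Spec (CommRingCat.of A)) = X ↘ Spec (CommRingCat.of A))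

include hπ in
theorem exists_pushLin (n : ℕ) :
    ∃ P : ∀ F : X.Modules, Coh.HH Z ((Coh.push π).obj F) n →ₗ[A] Coh.HH X F n,
      (∀ (F G : X.Modules) (φ : F ⟶ G) (x : Coh.HH Z ((Coh.push π).obj F) n),
        P G (Canon.HHlin A ((Coh.push π).map φ) n x) = Canon.HHlin A φ n (P F x)) ∧
      ∀ F : X.Modules, Coh.IsQCoh F → Function.Bijective (P F) :=
  exists_pushA π (Z ↘ Spec (CommRingCat.of A)) (X ↘ Spec (CommRingCat.of A)) hπ n

variable {A}

include hπ in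
theorem exists_isRDualOver_push {r : ℕ}
    (hpush : ∀ F : X.Modules, Coh.IsQCoh F → Coh.IsQCoh ((Coh.push π).obj F))
    {ωZ : Z.Modules} {trZ : Coh.HH Z ωZ r →ₗ[A] A} (hZ : Canon.IsRDualOver A Z r ωZ trZ)
    {ωX : X.Modules} (hωX : Coh.IsQCoh ωX) (τ : (Coh.push π).obj ωX ⟶ ωZ)
    (huniv : ∀ F : X.Modules, Coh.IsQCoh F →
      Function.Bijective (fun φ : F ⟶ ωX => (Coh.push π).map φ ≫ τ)) :
    ∃ trX : Coh.HH X ωX r →ₗ[A] A, Canon.IsRDualOver A X r ωX trX := by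
  obtain ⟨P, hP, hb⟩ := exists_pushLin A π hπ r
  let e : ∀ (F : X.Modules) (_ : Coh.IsQCoh F), Coh.HH Z ((Coh.push π).obj F) r ≃ₗ[A] Coh.HH X F r :=
    fun F hF => LinearEquiv.ofBijective (P F) (hb F hF)
  have he : ∀ (F : X.Modules) (hF : Coh.IsQCoh F) (y : Coh.HH Z ((Coh.push π).obj F) r),
    (e F hF).symm (P F y) = y := fun F hF y => (e F hF).symm_apply_apply y
  refine ⟨(trZ ∘ₗ Canon.HHlin A τ r) ∘ₗ (e ωX hωX).symm.toLinearMap, hωX, fun F hF => ?_⟩
  have key : ∀ (φ : F ⟶ ωX) (y : Coh.HH Z ((Coh.push π).obj F) r), Canon.dualityMap A X r ωX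
      ((trZ ∘ₗ Canon.HHlin A τ r) ∘ₗ (e ωX hωX).symm.toLinearMap) F φ (P F y) =
      Canon.dualityMap A Z r ωZ trZ _ ((Coh.push π).map φ ≫ τ) y := by
    intro φ y
    change trZ (Canon.HHlin A τ r ((e ωX hωX).symm (Canon.HHlin A φ r (P F y)))) =
      trZ (Canon.HHlin A ((Coh.push π).map φ ≫ τ) r y)
    rw [K769.Basic.HHlin_comp, ← hP, he ωX hωX]
    rfl
  constructor
  · intro φ ψ h
    apply (huniv F hF).1
    apply (hZ.2 _ (hpush F hF)).1
    apply LinearMap.ext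
    intro y
    change Canon.dualityMap A Z r ωZ trZ _ ((Coh.push π).map φ ≫ τ) y =
      Canon.dualityMap A Z r ωZ trZ _ ((Coh.push π).map ψ ≫ τ) y
    rw [← key, ← key]
    exact LinearMap.congr_fun h (P F y)
  · intro ψ
    obtain ⟨χ, hχ⟩ := (hZ.2 _ (hpush F hF)).2 (ψ ∘ₗ P F)
    obtain ⟨φ, hφ⟩ := (huniv F hF).2 χ
    refine ⟨φ, LinearMap.ext fun x => ?_⟩
    obtain ⟨y, rfl⟩ := (hb F hF).2 x
    rw [key]
    have h1 : (Coh.push π).map φ ≫ τ = χ := hφ
    rw [h1]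
    exact LinearMap.congr_fun hχ y

end K769.Push
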