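import Groth.Agent.Ega3B.NearFibre
import Groth.Agent.Ega3B.SpecPoint
import Groth.Agent.S2381

/-!
# Lifting sections from a fibre over a reduced base when `h^0` of the fibres is locally constant

* `exists_lift_W_red`: let `f : X ⟶ Y` be proper, `Y` locally Noetherian and reduced, `F` coherent and flat over `Y` with
  `y ↦ h^0(X_y, F_y)` locally constant; sections of `F_y` lift, up to a function not vanishing at `y`, to sections of `F`
  over `f⁻¹ W`, `W` affine.
* `near_fibre_red`: an invertible module with `h^0` of the fibres locally constant, trivial on the fibre at `y`, is trivial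
  over a neighbourhood `f⁻¹ U` of this fibre.
-/

set_option autoImplicit false
universe u

open CategoryTheory CategoryTheory.Limits AlgebraicGeometry Opposite TensorProduct TopologicalSpace MonoidalCategory

namespace K769.RedLift

open Groth.Agent Groth.Agent.Ega3B

section Algebra

open Groth.Agent.Ega3A.TFunBasic Groth.Agent.Ega3A.LocalT

variable {A : Type u} [CommRing A] (P : ChainComplex (ModuleCat.{u} A) ℤ)
  (hP : ∀ i, Module.Finite A (P.X i) ∧ Module.Flat A (P.X i)) (p : Ideal A) [p.IsPrime]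

include hP in
/-- If `T_i` preserves epimorphisms then every class of `H_i(P ⊗ k(p))` lifts, up to an element not in `p`. -/
theorem exists_lift_of_epi (i : ℤ) (hepi : (CohIII.TFun P i).PreservesEpimorphisms)
    (t : (CohIII.TFun P i).obj (ModuleCat.of A p.ResidueField)) :
    ∃ (a : A) (x : (CohIII.TFun P i).obj (ModuleCat.of A A)), a ∉ p ∧
      ((CohIII.TFun P i).map (ModuleCat.ofHom (Algebra.linearMap A p.ResidueField))).hom x =
        a • t := by
  have hfl := (hP ((ComplexShape.down ℤ).next i)).2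
  let g : ModuleCat.of A (A ⧸ p) ⟶ ModuleCat.of A p.ResidueField :=
    ModuleCat.ofHom (IsScalarTower.toAlgHom A (A ⧸ p) p.ResidueField).toLinearMap
  have hg : Function.Injective g.hom := IsFractionRing.injective (A ⧸ p) p.ResidueField
  obtain ⟨a, ha, x, hx⟩ := LiftFibre.exists_T_lift P i _ rfl g hg p.primeCompl (by
    intro k
    obtain ⟨⟨m, b⟩, hmb⟩ := IsLocalization.surj (nonZeroDivisors (A ⧸ p))
      (show p.ResidueField from k)
    obtain ⟨a, ha⟩ := Ideal.Quotient.mk_surjective b.1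
    refine ⟨a, fun hap => ?_, m, ?_⟩
    · apply nonZeroDivisors.ne_zero b.2
      rw [← ha]
      exact Ideal.Quotient.eq_zero_iff_mem.mpr hap
    · change algebraMap (A ⧸ p) p.ResidueField m = a • (show p.ResidueField from k)
      rw [← hmb, Algebra.smul_def, IsScalarTower.algebraMap_apply A (A ⧸ p) p.ResidueField,
        ← ha, mul_comm]
      rfl) t
  let q : ModuleCat.of A A ⟶ ModuleCat.of A (A ⧸ p) := ModuleCat.ofHom (Submodule.mkQ p)
  have hq : Epi q := by
    rw [ModuleCat.epi_iff_surjective]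
    exact Submodule.mkQ_surjective p
  have hq' : Epi ((CohIII.TFun P i).map q) := hepi.preserves q
  rw [ModuleCat.epi_iff_surjective] at hq'
  obtain ⟨x', hx'⟩ := hq' x
  refine ⟨a, x', ha, ?_⟩
  have h8 : ModuleCat.ofHom (Algebra.linearMap A p.ResidueField) = q ≫ g := by
    ext
    rfl
  rw [h8, Functor.map_comp, ModuleCat.hom_comp, LinearMap.comp_apply]
  exact (congrArg ((CohIII.TFun P i).map g).hom hx').trans hx

end Algebra

section Gamma

open EqzSections TensorASec VarietyB SecLift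

variable {A : Type u} [CommRing A] {X : Scheme.{u}}
  [X.Over (Spec (CommRingCat.of A))]

/-- Lifting of sections of `N ⊗ k(p)`. -/
theorem exists_lift_gamma_red (N : X.Modules) (P : ChainComplex (ModuleCat.{u} A) ℤ)
    (hP : ∀ i, Module.Finite A (P.X i) ∧ Module.Flat A (P.X i))
    (e0 : CohIII.tensorAFunctor A N ⋙ CohIII.HAb X 0 ≅
        CohIII.TFun P (-((0 : ℕ) : ℤ)) ⋙ forget₂ (ModuleCat.{u} A) AddCommGrpCat.{u})
    (hepi : (CohIII.TFun P (-((0 : ℕ) : ℤ))).PreservesEpimorphisms)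
    (p : Ideal A) [p.IsPrime]
    (t : Γ((CohIII.tensorAFunctor A N).obj (ModuleCat.of A p.ResidueField), ⊤)) :
    ∃ (a : A) (x : Γ((CohIII.tensorAFunctor A N).obj (ModuleCat.of A A), ⊤)), a ∈ p.primeCompl ∧
      ((CohIII.tensorAFunctor A N).map
        (ModuleCat.ofHom (Algebra.linearMap A p.ResidueField))).app ⊤ x =
        ((CohIII.tensorAFunctor A N).map (a • 𝟙 (ModuleCat.of A p.ResidueField))).app ⊤ t := by
  let E : ∀ M : ModuleCat.{u} A, Γ((CohIII.tensorAFunctor A N).obj M, ⊤) ≃+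
      (CohIII.TFun P (-((0 : ℕ) : ℤ))).obj M := fun M =>
    (SectExact.secEquiv ((CohIII.tensorAFunctor A N).obj M)).symm.trans
      (e0.app M).addCommGroupIsoToAddEquiv
  have hE : ∀ {M M' : ModuleCat.{u} A} (φ : M ⟶ M') (x : Γ((CohIII.tensorAFunctor A N).obj M, ⊤)),
      E M' (((CohIII.tensorAFunctor A N).map φ).app ⊤ x) =
        ((CohIII.TFun P (-((0 : ℕ) : ℤ))).map φ).hom (E M x) := by
    intro M M' φ x
    have h1 := ConcreteCategory.congr_hom (e0.hom.naturality φ)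
      ((SectExact.secEquiv ((CohIII.tensorAFunctor A N).obj M)).symm x)
    have h2 := SectExact.secEquiv_hmap ((CohIII.tensorAFunctor A N).map φ)
      ((SectExact.secEquiv ((CohIII.tensorAFunctor A N).obj M)).symm x)
    rw [AddEquiv.apply_symm_apply] at h2
    rw [← h2]
    change (e0.hom.app M').hom ((SectExact.secEquiv ((CohIII.tensorAFunctor A N).obj M')).symm
      (SectExact.secEquiv _ _)) = _
    rw [AddEquiv.symm_apply_apply]
    exact h1
  obtain ⟨a, x, ha, hx⟩ := exists_lift_of_epi P hP p (-((0 : ℕ) : ℤ)) hepi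
    (E (ModuleCat.of A p.ResidueField) t)
  refine ⟨a, (E (ModuleCat.of A A)).symm x, ha, ?_⟩
  apply (E (ModuleCat.of A p.ResidueField)).injective
  rw [hE, hE, AddEquiv.apply_symm_apply, hx]
  have h3 : (CohIII.TFun P (-((0 : ℕ) : ℤ))).map (a • 𝟙 (ModuleCat.of A p.ResidueField)) = a • 𝟙 _ :=
    FibreRank.TFun_map_smul P _ _ a
  rw [h3]
  rfl

end Gamma

section Affine

open EqzSections VarietyB PackageAsm Groth.Agent.Fdesc

variable {X Y : Scheme.{u}} (f : X ⟶ Y) [IsProper f] [IsLocallyNoetherian Y] [AlgebraicGeometry.IsReduced Y]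
  (F : X.Modules) (hF : Coh.IsCoh F)
  (hfl : FlatMod.IsFlatOver f F) (hconst : IsLocallyConstant (CohIII.fiberRank f F 0))
  {W : Y.Opens} (hW : IsAffineOpen W) (y : W)

include hF hfl hconst in
/-- Lifting over an affine open, on `f⁻¹ W` -/
theorem exists_lift_W_red {Z : Scheme.{u}}
    (g : Z ⟶ (f ⁻¹ᵁ W).toScheme)
    (q : Z ⟶ Spec (CommRingCat.of (hW.primeIdealOf y).asIdeal.ResidueField))
    (H : IsPullback g q (strMap f hW) (Spec.map (CommRingCat.ofHom
      (algebraMap Γ(Y, W) (hW.primeIdealOf y).asIdeal.ResidueField))))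
    (t0 : Γ((Scheme.Modules.pullback g).obj (F.restrict (f ⁻¹ᵁ W).ι), g ⁻¹ᵁ ⊤)) :
    ∃ (a : Γ(Y, W)) (s : Γ(F.restrict (f ⁻¹ᵁ W).ι, ⊤)), a ∉ (hW.primeIdealOf y).asIdeal ∧
      LocGen.pullSec g s = secMap q (g ⁻¹ᵁ ⊤) (algebraMap _ _ a) • t0 := by
  have hN : IsNoetherianRing Γ(Y, W) := IsLocallyNoetherian.component_noetherian ⟨W, hW⟩
  let iO : (f ⁻¹ᵁ W).toScheme.Over (Spec (CommRingCat.of Γ(Y, W))) := ⟨strMap f hW⟩
  have hpr : IsProper ((f ⁻¹ᵁ W).toScheme ↘ Spec (CommRingCat.of Γ(Y, W))) :=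
    inferInstanceAs (IsProper ((f ∣_ W) ≫ hW.isoSpec.hom))
  have hF' : Coh.IsCoh (F.restrict (f ⁻¹ᵁ W).ι) := Groth.Agent.CohqB.LocalQC.isCoh_restrict _ hF
  have hfl' : FlatMod.IsFlatOver ((f ⁻¹ᵁ W).toScheme ↘ Spec (CommRingCat.of Γ(Y, W)))
      (F.restrict (f ⁻¹ᵁ W).ι) := by
    refine FlatRestrict.isFlatOver_restrict f _ (f ⁻¹ᵁ W).ι hW.fromSpec ?_ F hfl
    change _ = ((f ∣_ W) ≫ hW.isoSpec.hom) ≫ hW.fromSpec
    rw [Category.assoc, IsAffineOpen.isoSpec_hom_fromSpec, morphismRestrict_ι]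
  obtain ⟨P, hP, hb, hT⟩ := Master.exists_complex (f ⁻¹ᵁ W).toScheme (F.restrict (f ⁻¹ᵁ W).ι) hF' hfl'
  obtain ⟨e0⟩ := hT 0
  have hr : ∀ z : W, CohIII.fiberRank f F 0 z.1 = CohIII.dRank P (-((0 : ℕ) : ℤ)) (hW.primeIdealOf z) := by
    intro z
    obtain ⟨e, he⟩ := NearFibre.fibreSec f F hF.1 hW z 0
    obtain ⟨σ, hσ⟩ := FibreRank.exists_sigma hW z
    have := (hP (-((0 : ℕ) : ℤ))).1
    refine (FibreRank.finrank_eq_dRank P (-((0 : ℕ) : ℤ)) (hW.primeIdealOf z)
      (Y.evaluation W z.1 z.2).hom σ hσ (FibreRank.exists_fraction hW z)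
      (e.trans (e0.app _).addCommGroupIsoToAddEquiv) ?_).2
    intro a w
    have h1 := e0.hom.naturality (a • 𝟙 (ModuleCat.of Γ(Y, W) (hW.primeIdealOf z).asIdeal.ResidueField))
    have h2 := congr($(h1) (e w))
    change (e0.hom.app _).hom (e _) = _
    rw [he]
    exact h2
  have hlc : IsLocallyConstant (CohIII.dRank P (-((0 : ℕ) : ℤ))) :=
    SpecPoint.isLocallyConstant_of_point hW _ _ hr hconst
  have hA : _root_.IsReduced Γ(Y, W) := inferInstance
  have hepi := ((S2381.result P hP (-((0 : ℕ) : ℤ))).2 hA hlc).2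
  have hinf : ∀ U V : (f ⁻¹ᵁ W).toScheme.Opens, IsAffineOpen U → IsAffineOpen V → IsAffineOpen (U ⊓ V) := by
    intro U V hU hV
    have h1 : IsAffineHom (pullback.diagonal ((f ⁻¹ᵁ W).toScheme ↘ Spec (CommRingCat.of Γ(Y, W)))) :=
      inferInstance
    exact isAffineHom_diagonal_iff.mp h1 ⊤
      (isAffineOpen_top _) U (le_preimage_top _ _) V (le_preimage_top _ _) hU hV
  obtain ⟨a, s, ha, hs⟩ := SecLift.exists_sec_eq H (F.restrict (f ⁻¹ᵁ W).ι) hinf hF'.1
    (hW.primeIdealOf y).asIdeal.primeCompl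
    (exists_lift_gamma_red (F.restrict (f ⁻¹ᵁ W).ι) P hP e0 hepi (hW.primeIdealOf y).asIdeal) t0
  refine ⟨a, s, ha, ?_⟩
  rw [← hs, LiftSection.sec_eq_pullSec, LocGen.res_refl]

end Affine

end K769.RedLift
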