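import Groth.Agent.Canon.K769.RedLift

/-!
# Triviality of an invertible module near a fibre, from a lifting property

* `near_fibre_of_lift`: if the sections of `N` on the fibre at `y` lift (up to functions not vanishing at `y`) to `f⁻¹ W`,
  and `N` is trivial on the fibre at `y`, then `N` is trivial over a neighbourhood `f⁻¹ U` of the fibre.
* `near_fibre_red`: the case of a reduced base with `h^0` locally constant.
-/

set_option autoImplicit false
universe u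

open CategoryTheory CategoryTheory.Limits AlgebraicGeometry Opposite TensorProduct TopologicalSpace

namespace K769.RedNear

open Groth.Agent Groth.Agent.Ega3B
open EqzSections VarietyB PackageAsm Groth.Agent.Fdesc Groth.Agent.Fdesc.LocGen

variable {X Y : Scheme.{u}}

/-- Triviality of an invertible module near a fibre. -/
theorem near_fibre_of_lift (f : X ⟶ Y) [IsProper f] (y : Y)
    (N : X.Modules) (hN : PicF.IsInvertible N)
    (hy : Nonempty (CohIII.fiberMod f N y ≅ Coh.structureModule (f.fiber y)))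
    {W : Y.Opens} (hW : IsAffineOpen W) (hyW : y ∈ W)
    (hlift : ∀ {Z : Scheme.{u}} (g : Z ⟶ (f ⁻¹ᵁ W).toScheme)
      (q : Z ⟶ Spec (CommRingCat.of (hW.primeIdealOf ⟨y, hyW⟩).asIdeal.ResidueField))
      (_ : IsPullback g q (strMap f hW) (Spec.map (CommRingCat.ofHom
        (algebraMap Γ(Y, W) (hW.primeIdealOf ⟨y, hyW⟩).asIdeal.ResidueField))))
      (t0 : Γ((Scheme.Modules.pullback g).obj (N.restrict (f ⁻¹ᵁ W).ι), g ⁻¹ᵁ ⊤)),
      ∃ (a : Γ(Y, W)) (s : Γ(N.restrict (f ⁻¹ᵁ W).ι, ⊤)), a ∉ (hW.primeIdealOf ⟨y, hyW⟩).asIdeal ∧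
        LocGen.pullSec g s = secMap q (g ⁻¹ᵁ ⊤) (algebraMap _ _ a) • t0) :
    ∃ (U : Y.Opens) (e : Γ(N, f ⁻¹ᵁ U)), y ∈ U ∧ IsGen e := by
  obtain ⟨g, q, σ, hg, H, -⟩ := EtPoint.exists_square f hW ⟨y, hyW⟩
  obtain ⟨φ0⟩ := hy
  obtain ⟨ε⟩ := FibreResid.nonempty_fiberMod_iso f N y (f ⁻¹ᵁ W) g hg
  let φ := (ε ≪≫ φ0).symm
  let t0 : Γ((Scheme.Modules.pullback g).obj (N.restrict (f ⁻¹ᵁ W).ι), g ⁻¹ᵁ ⊤) :=
    φ.hom.app ⊤ (one ⊤)
  have ht0 : IsGen t0 := (isGen_one ⊤).app φ.hom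
  obtain ⟨a, s, ha, hs⟩ := hlift g q H t0
  -- the section `s` generates on the fibre
  have hunit : IsUnit (secMap q (g ⁻¹ᵁ ⊤) (algebraMap Γ(Y, W)
      (hW.primeIdealOf ⟨y, hyW⟩).asIdeal.ResidueField a)) := by
    refine IsUnit.map _ (IsUnit.mk0 _ ?_)
    rw [Ne, Ideal.algebraMap_residueField_eq_zero]
    exact ha
  have hgen : IsGen (pullSec g s) := by
    rw [hs]
    exact ht0.unit_smul hunit
  have hN' := NearFibre.isInvertible_restrict hN (f ⁻¹ᵁ W)
  have hgl : g ⁻¹ᵁ (CohB1.genLocus _ (homOf s)) = ⊤ := by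
    rw [← Ega1.AmpFam.genLocus_pullHom g hN' (homOf s), ← top_le_iff, le_genLocus_iff]
    have h2 : sec (pullHom g (homOf s)) (g ⁻¹ᵁ ⊤) = pullSec g s := by
      rw [sec_pullHom, sec_homOf, res_refl]
    exact h2 ▸ hgen
  -- the open where `s` generates
  obtain ⟨m, rfl⟩ := (toRestrict (M := N) (f ⁻¹ᵁ W).ι (U := ⊤)).surjective s
  set G := CohB1.genLocus _ (homOf (toRestrict (M := N) (f ⁻¹ᵁ W).ι m)) with hG
  have hGm : IsGen (LocGen.res N ((f ⁻¹ᵁ W).ι.image_mono (le_top : G ≤ ⊤)) m) := by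
    have h3 := isGen_sec_genLocus (homOf (toRestrict (M := N) (f ⁻¹ᵁ W).ι m))
    rw [sec_homOf, res_toRestrict, isGen_toRestrict_iff] at h3
    exact h3
  have hfib : ∀ x : X, f x = y → x ∈ (f ⁻¹ᵁ W).ι ''ᵁ G := by
    intro x hx
    have h4 : x ∈ Set.range (f.fiberι y) := by
      rw [f.range_fiberι y]
      exact hx
    obtain ⟨z, rfl⟩ := h4
    refine ⟨g z, ?_, ?_⟩
    · have h5 : z ∈ g ⁻¹ᵁ G := by
        rw [hgl]
        trivial
      exact h5
    · rw [← hg]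
      rfl
  obtain ⟨U, hyU, hUW, hU⟩ := NearFibre.exists_tube f f.isClosedMap y _ hfib W hyW
  exact ⟨U, LocGen.res N hU (LocGen.res N ((f ⁻¹ᵁ W).ι.image_mono (le_top : G ≤ ⊤)) m), hyU, hGm.res hU⟩

/-- Triviality of an invertible module near a fibre, over a reduced base, with `h^0` locally constant. -/
theorem near_fibre_red (f : X ⟶ Y) [IsProper f] [Flat f] [IsLocallyNoetherian Y] [AlgebraicGeometry.IsReduced Y]
    (N : X.Modules) (hN : PicF.IsInvertible N) (hconst : IsLocallyConstant (CohIII.fiberRank f N 0)) (y : Y)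
    (hy : Nonempty (CohIII.fiberMod f N y ≅ Coh.structureModule (f.fiber y))) :
    ∃ (U : Y.Opens) (e : Γ(N, f ⁻¹ᵁ U)), y ∈ U ∧ IsGen e := by
  obtain ⟨W, hW, hyW, -⟩ := exists_isAffineOpen_mem_and_subset (x := y) (U := ⊤) trivial
  have hcoh : Coh.IsCoh N := PerfA.CohSerre.isCoh_of_isFinLocFree
    (NearFibre.isFinLocFree_of_isInvertible hN)
  exact near_fibre_of_lift f y N hN hy hW hyW fun g q H t0 =>
    RedLift.exists_lift_W_red f N hcoh (NearFibre.isFlatOver_of_isInvertible f hN) hconst hW ⟨y, hyW⟩ g q H t0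

/-- A section-level form of `NearFibre.near_fibre`. -/
theorem near_fibre_H1 (f : X ⟶ Y) [IsProper f] [Flat f] [IsLocallyNoetherian Y] (y : Y)
    (h1 : Subsingleton (Coh.HH (f.fiber y) (Coh.structureModule (f.fiber y)) 1))
    (N : X.Modules) (hN : PicF.IsInvertible N)
    (hy : Nonempty (CohIII.fiberMod f N y ≅ Coh.structureModule (f.fiber y))) :
    ∃ (U : Y.Opens) (e : Γ(N, f ⁻¹ᵁ U)), y ∈ U ∧ IsGen e := by
  obtain ⟨W, hW, hyW, -⟩ := exists_isAffineOpen_mem_and_subset (x := y) (U := ⊤) trivial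
  have hcoh : Coh.IsCoh N := PerfA.CohSerre.isCoh_of_isFinLocFree
    (NearFibre.isFinLocFree_of_isInvertible hN)
  obtain ⟨φ0⟩ := hy
  obtain ⟨eH, -⟩ := FibreResid.exists_equiv_HH φ0 1
  have h : Subsingleton (CohIII.fiberH f N y 1) := eH.toEquiv.subsingleton
  exact near_fibre_of_lift f y N hN ⟨φ0⟩ hW hyW fun g q H t0 =>
    LiftSection.exists_lift_W f N hcoh (NearFibre.isFlatOver_of_isInvertible f hN)
      hW ⟨y, hyW⟩ (NearFibre.fibreSec f N hcoh.1 hW ⟨y, hyW⟩ 1) h g q H t0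

end K769.RedNear
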